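import Groth.Prelude.Def_RootCh2
import Groth.Agent.RootDat.Basic
import Mathlib.Data.Sign.Basic
import Mathlib.LinearAlgebra.RootSystem.BaseExists

/-!
Root systems over ordered fields: signs against roots and coroots, bases cut out by regular
vectors, fundamental weights lying in a closed chamber.
-/

set_option autoImplicit false
set_option linter.unusedSectionVars false

namespace Groth.Agent.RootDat.Cham

open RootPairing RootCh Set Function Module

variable {ι R M N : Type*} [Field R] [LinearOrder R] [IsStrictOrderedRing R]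
  [AddCommGroup M] [Module R M] [AddCommGroup N] [Module R N] [Finite ι]
  {P : RootPairing ι R M N}

omit [LinearOrder R] [IsStrictOrderedRing R] [Finite ι] in
lemma root'_add {i j k : ι} (h : P.root k = P.root i + P.root j) (x : N) :
    P.root' k x = P.root' i x + P.root' j x := by
  show P.toLinearMap (P.root k) x = _
  rw [h, map_add]; rfl

omit [LinearOrder R] [IsStrictOrderedRing R] [Finite ι] in
lemma root'_neg (k : ι) (x : N) : P.root' (neg P k) x = -P.root' k x := by
  show P.toLinearMap (P.root _) x = _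
  rw [root_neg, map_neg]; rfl

omit [LinearOrder R] [IsStrictOrderedRing R] [Finite ι] in
lemma coroot'_neg (k : ι) (ξ : M) : P.coroot' (neg P k) ξ = -P.coroot' k ξ := by
  show P.toLinearMap ξ (P.coroot _) = _
  rw [coroot_neg, map_neg]; rfl

omit [LinearOrder R] [IsStrictOrderedRing R] [Finite ι] in
lemma root'_refl (j i : ι) (x : N) :
    P.root' (P.reflectionPerm j i) x = P.root' i x - P.pairing i j * P.root' j x := by
  show P.toLinearMap (P.root _) x = _
  rw [← P.reflectionPerm_root, map_sub, map_smul, LinearMap.sub_apply, LinearMap.smul_apply,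
    smul_eq_mul]
  rfl

omit [LinearOrder R] [IsStrictOrderedRing R] [Finite ι] in
lemma root'_coreflection (j i : ι) (x : N) :
    P.root' i (P.coreflection j x) = P.root' (P.reflectionPerm j i) x := by
  rw [root'_refl, RootPairing.coreflection_apply, map_sub, map_smul, smul_eq_mul,
    show P.root' i (P.coroot j) = P.pairing i j from rfl, mul_comm]

omit [LinearOrder R] [IsStrictOrderedRing R] [Finite ι] in
lemma coroot'_reflection (j i : ι) (ξ : M) :
    P.coroot' i (P.reflection j ξ) = P.coroot' (P.reflectionPerm j i) ξ :=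
  root'_coreflection (P := P.flip) j i ξ

variable [P.IsRootSystem]

variable (P) in
/-- The identification of weights with coweights given by the root form. -/
noncomputable def dual : M ≃ₗ[R] N :=
  letI := Fintype.ofFinite ι
  P.PolarizationEquiv

lemma coroot'_eq (i : ι) (ξ : M) :
    ∃ c : R, 0 < c ∧ P.coroot' i ξ = c * P.root' i (dual P ξ) := by
  let := Fintype.ofFinite ι
  refine ⟨2 / P.RootForm (P.root i) (P.root i),
    div_pos two_pos (P.rootForm_pos_of_ne_zero (Submodule.subset_span (mem_range_self i))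
      (P.ne_zero i)), ?_⟩
  show P.toLinearMap ξ (P.coroot i) = _ * P.toLinearMap (P.root i) (P.PolarizationEquiv ξ)
  rw [P.coroot_eq_polarizationEquiv_apply_root, map_smul, smul_eq_mul, polarizationEquiv_apply,
    polarizationEquiv_apply, toLinearMap_apply_apply_Polarization,
    toLinearMap_apply_apply_Polarization, rootForm_apply_apply P (P.root i) ξ, rootForm_apply_apply P ξ (P.root i)]
  simp only [mul_comm]

lemma cosgn_dual (ξ : M) : cosgnVec P (dual P ξ) = sgnVec P ξ := by
  ext i
  obtain ⟨c, hc, h⟩ := coroot'_eq (P := P) i ξ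
  simp only [sgnVec, cosgnVec, h, sign_mul, sign_pos hc, one_mul]

lemma coroot'_pos_iff (i : ι) (ξ : M) : 0 < P.coroot' i ξ ↔ 0 < P.root' i (dual P ξ) := by
  obtain ⟨c, hc, h⟩ := coroot'_eq (P := P) i ξ
  rw [h, mul_pos_iff_of_pos_left hc]

lemma coroot'_nonneg_iff (i : ι) (ξ : M) : 0 ≤ P.coroot' i ξ ↔ 0 ≤ P.root' i (dual P ξ) := by
  obtain ⟨c, hc, h⟩ := coroot'_eq (P := P) i ξ
  rw [h, mul_nonneg_iff_of_pos_left hc]

lemma coroot'_zero_iff (i : ι) (ξ : M) : P.coroot' i ξ = 0 ↔ P.root' i (dual P ξ) = 0 := by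
  obtain ⟨c, hc, h⟩ := coroot'_eq (P := P) i ξ
  rw [h, mul_eq_zero_iff_left hc.ne']

section Expansion

omit [LinearOrder R] [IsStrictOrderedRing R] [Finite ι]

variable (b : P.Base)

lemma ext_root' {x y : N} (h : ∀ j : b.support, P.root' j x = P.root' j y) : x = y :=
  P.flip.toPerfPair.injective <| b.toWeightBasis.ext fun j => by simpa using h j

lemma ext_coroot' {ξ η : M} (h : ∀ j : b.support, P.coroot' j ξ = P.coroot' j η) : ξ = η :=
  P.toPerfPair.injective <| b.toCoweightBasis.ext fun j => by simpa using h j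

lemma root'_sum (a : b.support → R) (j : b.support) :
    P.root' j (∑ k, a k • fundCoweight b k) = a j := by
  rw [map_sum, Finset.sum_eq_single j, map_smul, root'_fundCoweight_self, smul_eq_mul, mul_one]
  · intro k _ hk
    rw [map_smul, root'_fundCoweight_of_ne b k j (Ne.symm hk), smul_zero]
  · simp

lemma coroot'_sum (a : b.support → R) (j : b.support) :
    P.coroot' j (∑ k, a k • fundWeight b k) = a j := by
  rw [map_sum, Finset.sum_eq_single j, map_smul, coroot'_fundWeight_self, smul_eq_mul, mul_one]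
  · intro k _ hk
    rw [map_smul, coroot'_fundWeight_of_ne b k j (Ne.symm hk), smul_zero]
  · simp

lemma eq_sum_root' (x : N) : x = ∑ j : b.support, P.root' j x • fundCoweight b j :=
  ext_root' b fun j => by rw [root'_sum]

lemma eq_sum_coroot' (ξ : M) : ξ = ∑ j : b.support, P.coroot' j ξ • fundWeight b j :=
  ext_coroot' b fun j => by rw [coroot'_sum]

lemma root'_expand (k : ι) (x : N) :
    P.root' k x = ∑ j : b.support, P.root' j x * P.root' k (fundCoweight b j) := by
  conv_lhs => rw [eq_sum_root' b x]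
  simp only [map_sum, map_smul, smul_eq_mul]

lemma pair_expand (ξ : M) (x : N) :
    P.toLinearMap ξ x = ∑ j : b.support, P.coroot' j ξ * P.toLinearMap (fundWeight b j) x := by
  conv_lhs => rw [eq_sum_coroot' b ξ]
  simp only [map_sum, map_smul, LinearMap.sum_apply, LinearMap.smul_apply, smul_eq_mul]

end Expansion

variable [P.IsCrystallographic] {b : P.Base}

omit [Finite ι] [P.IsRootSystem] [P.IsCrystallographic] in
lemma isPos_neg (b : P.Base) (k : ι) : b.IsPos (neg P k) ↔ ¬ b.IsPos k :=
  RootPairing.Base.IsPos.neg_iff_not b k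

omit [P.IsRootSystem] in
lemma root'_nonneg {x : N} (hx : ∀ j ∈ b.support, 0 ≤ P.root' j x) {k : ι} (hk : b.IsPos k) :
    0 ≤ P.root' k x :=
  hk.induction_on_add (p := fun k => 0 ≤ P.root' k x) hx fun i j k e h hj => by
    rw [root'_add e]; exact add_nonneg h (hx j hj)

omit [P.IsRootSystem] in
lemma root'_pos {x : N} (hx : ∀ j ∈ b.support, 0 < P.root' j x) {k : ι} (hk : b.IsPos k) :
    0 < P.root' k x :=
  hk.induction_on_add (p := fun k => 0 < P.root' k x) hx fun i j k e h hj => by
    rw [root'_add e]; exact add_pos h (hx j hj)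

omit [P.IsRootSystem] in
lemma root'_ne_zero {x : N} (hx : ∀ j ∈ b.support, 0 < P.root' j x) (k : ι) :
    P.root' k x ≠ 0 := fun h => by
  by_cases hk : b.IsPos k
  · exact (root'_pos hx hk).ne' h
  · have := root'_pos hx ((isPos_neg b k).mpr hk)
    rw [root'_neg, h, neg_zero] at this
    exact lt_irrefl 0 this

omit [P.IsRootSystem] in
lemma isPos_iff_root' {x : N} (hx : ∀ j ∈ b.support, 0 < P.root' j x) (k : ι) :
    b.IsPos k ↔ 0 < P.root' k x := by
  refine ⟨root'_pos hx, fun h => ?_⟩
  by_contra hk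
  have := root'_pos hx ((isPos_neg b k).mpr hk)
  rw [root'_neg] at this
  linarith

lemma coroot'_nonneg {ξ : M} (hξ : ξ ∈ closedChamber b) {k : ι} (hk : b.IsPos k) :
    0 ≤ P.coroot' k ξ :=
  (coroot'_nonneg_iff k ξ).mpr <|
    root'_nonneg (fun j hj => (coroot'_nonneg_iff j ξ).mp (hξ j hj)) hk

lemma mem_closedChamber_iff {ξ : M} :
    ξ ∈ closedChamber b ↔ ∀ k, b.IsPos k → 0 ≤ P.coroot' k ξ :=
  ⟨fun h _ hk => coroot'_nonneg h hk,
    fun h j hj => h j (RootPairing.Base.isPos_of_mem_support hj)⟩

lemma closedChamber_congr {b' : P.Base} (h : ∀ k, b.IsPos k ↔ b'.IsPos k) :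
    closedChamber b = closedChamber b' := by
  ext ξ; simp only [mem_closedChamber_iff, h]

lemma fundCoweight_root'_nonneg (j : b.support) {k : ι} (hk : b.IsPos k) :
    0 ≤ P.root' k (fundCoweight b j) := by
  refine root'_nonneg (fun l hl => ?_) hk
  rcases eq_or_ne (⟨l, hl⟩ : b.support) j with rfl | h
  · rw [root'_fundCoweight_self b ⟨l, hl⟩]; exact zero_le_one
  · rw [root'_fundCoweight_of_ne b j ⟨l, hl⟩ h]

omit [LinearOrder R] [IsStrictOrderedRing R] [Finite ι] [P.IsRootSystem] [P.IsCrystallographic] in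
lemma exists_int_root' (b : P.Base) {x : N} (h : ∀ j ∈ b.support, ∃ z : ℤ, P.root' j x = z)
    (k : ι) : ∃ z : ℤ, P.root' k x = z := by
  have := b.root_mem_span_int k
  show ∃ z : ℤ, P.toLinearMap (P.root k) x = z
  generalize P.root k = v at this ⊢
  induction this using Submodule.span_induction with
  | mem y hy => obtain ⟨j, hj, rfl⟩ := hy; exact h j hj
  | zero => exact ⟨0, by simp⟩
  | add y z _ _ hy hz =>
    obtain ⟨a, ha⟩ := hy; obtain ⟨c, hc⟩ := hz
    exact ⟨a + c, by simp [ha, hc]⟩
  | smul a y _ hy => obtain ⟨c, hc⟩ := hy; exact ⟨a * c, by simp [hc]⟩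

omit [LinearOrder R] [IsStrictOrderedRing R] [Finite ι] [P.IsRootSystem] [P.IsCrystallographic] in
lemma exists_int_coroot' (b : P.Base) {ξ : M}
    (h : ∀ j ∈ b.support, ∃ z : ℤ, P.coroot' j ξ = z) (k : ι) : ∃ z : ℤ, P.coroot' k ξ = z :=
  exists_int_root' (P := P.flip) b.flip h k

omit [LinearOrder R] [IsStrictOrderedRing R] [Finite ι] [P.IsCrystallographic] in
lemma fundWeight_int (b : P.Base) (i : b.support) (k : ι) :
    ∃ z : ℤ, P.coroot' k (fundWeight b i) = z := by
  refine exists_int_coroot' b (fun j hj => ?_) k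
  rcases eq_or_ne (⟨j, hj⟩ : b.support) i with rfl | h
  · exact ⟨1, by rw [coroot'_fundWeight_self b ⟨j, hj⟩]; simp⟩
  · exact ⟨0, by rw [coroot'_fundWeight_of_ne b i ⟨j, hj⟩ h]; simp⟩

omit [LinearOrder R] [IsStrictOrderedRing R] [Finite ι] [P.IsCrystallographic] in
lemma fundCoweight_int (b : P.Base) (i : b.support) (k : ι) :
    ∃ z : ℤ, P.root' k (fundCoweight b i) = z :=
  fundWeight_int (P := P.flip) b.flip i k

lemma fundWeight_mem_closedChamber (b : P.Base) (j : b.support) :
    fundWeight b j ∈ closedChamber b := by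
  intro l hl
  rcases eq_or_ne (⟨l, hl⟩ : b.support) j with rfl | h
  · rw [coroot'_fundWeight_self b ⟨l, hl⟩]; exact zero_le_one
  · rw [coroot'_fundWeight_of_ne b j ⟨l, hl⟩ h]

lemma dual_fundWeight (b : P.Base) (j : b.support) :
    ∃ c : R, 0 < c ∧ dual P (fundWeight b j) = c • fundCoweight b j := by
  refine ⟨P.root' j (dual P (fundWeight b j)), ?_, ext_root' b fun l => ?_⟩
  · rw [← coroot'_pos_iff, coroot'_fundWeight_self]; exact one_pos
  rw [map_smul, smul_eq_mul]
  rcases eq_or_ne l j with rfl | h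
  · rw [root'_fundCoweight_self, mul_one]
  · rw [root'_fundCoweight_of_ne b j l h, mul_zero, ← coroot'_zero_iff,
      coroot'_fundWeight_of_ne b j l h]

/-- A root vanishing on a dominant vector has no coefficient at the simple roots positive on it. -/
lemma coef_eq_zero {x : N} (hx : ∀ j ∈ b.support, 0 ≤ P.root' j x) {k : ι}
    (hk : P.root' k x = 0) {l : b.support} (hl : P.root' l x ≠ 0) :
    P.root' k (fundCoweight b l) = 0 := by
  have key : ∀ k, b.IsPos k → P.root' k x = 0 → P.root' k (fundCoweight b l) = 0 := by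
    intro k hkp h0
    rw [root'_expand b k x, Finset.sum_eq_zero_iff_of_nonneg fun (j : b.support) _ =>
      mul_nonneg (hx j j.2) (fundCoweight_root'_nonneg j hkp)] at h0
    exact (mul_eq_zero.mp (h0 l (Finset.mem_univ l))).resolve_left hl
  by_cases hkp : b.IsPos k
  · exact key k hkp hk
  · have := key _ ((isPos_neg b k).mpr hkp) (by rw [root'_neg, hk, neg_zero])
    rwa [root'_neg, neg_eq_zero] at this

omit [P.IsRootSystem] [P.IsCrystallographic] in
lemma eq_one_of_int {c : R} {z m : ℤ} (hc : 0 < c) (hz : c = z) (hm : c * m = 1) : c = 1 := by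
  subst hz
  have h1 : z * m = 1 := by exact_mod_cast hm
  have h2 : 0 < z := by exact_mod_cast hc
  rcases Int.mul_eq_one_iff_eq_one_or_neg_one.mp h1 with ⟨h, -⟩ | ⟨h, -⟩ <;> simp_all

lemma exists_eq_fundWeight {b' : P.Base} (i : b'.support)
    (h : fundWeight b' i ∈ closedChamber b) :
    ∃ j : b.support, fundWeight b' i = fundWeight b j := by
  classical
  set w := fundWeight b' i
  have hd : ∀ j ∈ b.support, 0 ≤ P.root' j (dual P w) := fun j hj =>
    (coroot'_nonneg_iff j w).mp (h j hj)
  obtain ⟨l, hl⟩ : ∃ l : b.support, P.coroot' l w ≠ 0 := by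
    by_contra! hall
    have : w = 0 := ext_coroot' b fun j => by rw [hall j, map_zero]
    have h1 := coroot'_fundWeight_self b' i
    rw [show fundWeight b' i = w from rfl, this, map_zero] at h1
    exact zero_ne_one h1
  have hline : ∀ m : b.support, P.coroot' m w ≠ 0 →
      fundCoweight b m = P.root' i (fundCoweight b m) • fundCoweight b' i := fun m hm => by
    refine ext_root' b' fun k => ?_
    rw [map_smul, smul_eq_mul]
    rcases eq_or_ne k i with rfl | hki
    · rw [root'_fundCoweight_self, mul_one]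
    · rw [root'_fundCoweight_of_ne b' i k hki, mul_zero]
      exact coef_eq_zero hd ((coroot'_zero_iff _ w).mp (coroot'_fundWeight_of_ne b' i k hki))
        fun e => hm ((coroot'_zero_iff _ w).mpr e)
  have hother : ∀ m : b.support, m ≠ l → P.coroot' m w = 0 := fun m hml => by
    by_contra hm
    have h1 := root'_fundCoweight_self b l
    rw [hline l hl, map_smul, smul_eq_mul] at h1
    have h0 := root'_fundCoweight_of_ne b m l (Ne.symm hml)
    rw [hline m hm, map_smul, smul_eq_mul] at h0
    have hm0 := (mul_eq_zero.mp h0).resolve_right (right_ne_zero_of_mul_eq_one h1)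
    have h2 := root'_fundCoweight_self b m
    rw [hline m hm, hm0, zero_smul, map_zero] at h2
    exact zero_ne_one h2
  have hw : w = P.coroot' l w • fundWeight b l := ext_coroot' b fun m => by
    rw [map_smul, smul_eq_mul]
    rcases eq_or_ne m l with rfl | hml
    · rw [coroot'_fundWeight_self, mul_one]
    · rw [coroot'_fundWeight_of_ne b l m hml, mul_zero, hother m hml]
  refine ⟨l, hw.trans ?_⟩
  obtain ⟨z, hz⟩ := fundWeight_int b' i l
  obtain ⟨m, hm⟩ := fundWeight_int b l i
  have h1 : P.coroot' i w = 1 := coroot'_fundWeight_self b' i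
  rw [hw, map_smul, smul_eq_mul, hm] at h1
  rw [eq_one_of_int ((h l l.2).lt_of_ne (Ne.symm hl)) hz h1, one_smul]

lemma baseCorners_eq (b : P.Base) : baseCorners b = range (fundWeight b) := by
  ext w
  constructor
  · rintro ⟨⟨b', i, rfl⟩, h⟩
    obtain ⟨j, hj⟩ := exists_eq_fundWeight i h
    exact ⟨j, hj.symm⟩
  · rintro ⟨j, rfl⟩
    exact ⟨⟨b, j, rfl⟩, fundWeight_mem_closedChamber b j⟩

lemma fundWeight_inj (b : P.Base) : Injective (fundWeight b) := fun i j h => by
  by_contra hne
  have := coroot'_fundWeight_self b i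
  rw [h, coroot'_fundWeight_of_ne b j i hne] at this
  exact zero_ne_one this

lemma corr_unique {y : N} {j : b.support} (h : Corr P (fundWeight b j) y) :
    y = fundCoweight b j := by
  obtain ⟨b', i, hw, rfl⟩ := h
  obtain ⟨c, hc, hc'⟩ := dual_fundWeight b j
  obtain ⟨c', hc₁, hc₁'⟩ := dual_fundWeight b' i
  rw [hw, hc'] at hc₁'
  set a := c / c'
  have ha : fundCoweight b' i = a • fundCoweight b j := by
    rw [show a = c'⁻¹ * c from div_eq_inv_mul c c', mul_smul, hc₁', inv_smul_smul₀ hc₁.ne']
  obtain ⟨z, hz⟩ := fundCoweight_int b' i j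
  obtain ⟨m, hm⟩ := fundCoweight_int b j i
  rw [ha, map_smul, root'_fundCoweight_self, smul_eq_mul, mul_one] at hz
  have h1 := root'_fundCoweight_self b' i
  rw [ha, map_smul, smul_eq_mul, hm] at h1
  rw [ha, eq_one_of_int (c := a) (div_pos hc hc₁) hz h1, one_smul]

omit [LinearOrder R] [IsStrictOrderedRing R] [Finite ι] [P.IsCrystallographic] in
lemma mem_fundCoweights {x : N} :
    x ∈ fundCoweights P ↔ ∃ (b : P.Base) (i : b.support), fundCoweight b i = x := by
  constructor
  · rintro ⟨b', i, rfl⟩; exact ⟨b'.flip, i, rfl⟩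
  · rintro ⟨b', i, rfl⟩; exact ⟨b'.flip, i, rfl⟩

lemma lex_vec (x y : N) : ∃ z : N, ∀ i, (P.root' i x = 0 → P.root' i z = P.root' i y) ∧
    (0 < P.root' i x → 0 < P.root' i z) := by
  let := Fintype.ofFinite ι
  refine ⟨(1 + ∑ i, |P.root' i y| / |P.root' i x|) • x + y, fun i => ⟨fun h => ?_, fun h => ?_⟩⟩
  · rw [map_add, map_smul, h, smul_zero, zero_add]
  · rw [map_add, map_smul, smul_eq_mul]
    have hle : |P.root' i y| / |P.root' i x| ≤ ∑ k, |P.root' k y| / |P.root' k x| :=
      Finset.single_le_sum (f := fun k => |P.root' k y| / |P.root' k x|)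
        (fun k _ => div_nonneg (abs_nonneg _) (abs_nonneg _)) (Finset.mem_univ i)
    rw [abs_of_pos h, div_le_iff₀ h] at hle
    have := neg_abs_le (P.root' i y)
    linarith

variable [P.IsReduced]

omit [IsStrictOrderedRing R] in
lemma exists_base [IsStrictOrderedRing R] {x : N} (hx : ∀ i, P.root' i x ≠ 0) :
    ∃ b : P.Base, ∀ i, b.IsPos i ↔ 0 < P.root' i x := by
  let := P.indexNeg
  let f : Module.Dual R M := P.toLinearMap.flip x
  let b : P.Base := RootPairing.Base.mk' P (IsAddIndecomposable.baseOf P.root (f : M →+ R))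
    (P.linearIndepOn_root_baseOf' f hx) fun i =>
      IsAddIndecomposable.mem_or_neg_mem_closure_baseOf P.root (f : M →+ R) i (hx i) (by simp)
  refine ⟨b, isPos_iff_root' fun j hj => ?_⟩
  have : j ∈ IsAddIndecomposable.baseOf P.root (f : M →+ R) := (toFinite _).mem_toFinset.mp hj
  exact this.1

lemma exists_regular : ∃ x : N, ∀ i, P.root' i x ≠ 0 := by
  obtain ⟨b⟩ := P.nonempty_base
  refine ⟨∑ j : b.support, (1 : R) • fundCoweight b j, fun i hi => ?_⟩
  have hpos : ∀ j ∈ b.support, 0 < P.root' j (∑ k : b.support, (1 : R) • fundCoweight b k) :=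
    fun j hj => by rw [root'_sum b _ ⟨j, hj⟩]; exact one_pos
  exact root'_ne_zero hpos i hi

/-- A base whose positive roots refine a pair of vectors lexicographically. -/
lemma exists_base_lex (x y : N) :
    ∃ b : P.Base, ∀ i, (0 < P.root' i x → b.IsPos i) ∧
      (P.root' i x = 0 → 0 < P.root' i y → b.IsPos i) := by
  obtain ⟨r, hr⟩ := exists_regular (P := P)
  obtain ⟨u, hu⟩ := lex_vec (P := P) y r
  obtain ⟨z, hz⟩ := lex_vec (P := P) x u
  have key : ∀ v w v' : N, (∀ i, (P.root' i v = 0 → P.root' i v' = P.root' i w) ∧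
      (0 < P.root' i v → 0 < P.root' i v')) → (∀ i, P.root' i w ≠ 0) → ∀ i, P.root' i v' ≠ 0 := by
    intro v w v' h hw i
    rcases lt_trichotomy (P.root' i v) 0 with h' | h' | h'
    · have := (h (neg P i)).2 (by rw [root'_neg]; linarith)
      rw [root'_neg] at this
      linarith
    · rw [(h i).1 h']; exact hw i
    · exact ((h i).2 h').ne'
  obtain ⟨b, hb⟩ := exists_base (key x u z hz (key y r u hu hr))
  exact ⟨b, fun i => ⟨fun h => (hb i).mpr ((hz i).2 h),
    fun h h' => (hb i).mpr ((hz i).1 h ▸ (hu i).2 h')⟩⟩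

lemma isPos_refl (b : P.Base) {j : ι} (hj : j ∈ b.support) (i : ι) :
    b.IsPos (P.reflectionPerm j i) ↔ (b.IsPos i ∧ i ≠ j) ∨ i = neg P j := by
  have hjp := RootPairing.Base.isPos_of_mem_support (b := b) hj
  have hnj : ¬ b.IsPos (neg P j) := fun h => (isPos_neg b j).mp h hjp
  rcases eq_or_ne i j with rfl | hij
  · exact iff_of_false hnj fun h => h.elim (fun h => h.2 rfl) fun h => hnj (h ▸ hjp)
  rcases eq_or_ne i (neg P j) with rfl | hinj
  · rw [reflectionPerm_neg, show P.reflectionPerm j j = neg P j from rfl, RootDat.neg_neg]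
    exact iff_of_true hjp (Or.inr rfl)
  simp only [hij, hinj, ne_eq, not_false_eq_true, and_true, or_false]
  refine ⟨fun h => ?_, fun h => h.reflectionPerm hj hij⟩
  by_contra hi
  have := ((isPos_neg b i).mpr hi).reflectionPerm hj fun e => hinj (by rw [← e, RootDat.neg_neg])
  rw [reflectionPerm_neg, isPos_neg] at this
  exact this h

lemma exists_refl_base (b : P.Base) {j : ι} (hj : j ∈ b.support) :
    ∃ b' : P.Base, ∀ i, b'.IsPos i ↔ (b.IsPos i ∧ i ≠ j) ∨ i = neg P j := by
  set x := ∑ k : b.support, (1 : R) • fundCoweight b k with hxdef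
  have hpos : ∀ k ∈ b.support, 0 < P.root' k x := fun k hk => by
    rw [hxdef, root'_sum b _ ⟨k, hk⟩]; exact one_pos
  have hiff := isPos_iff_root' hpos
  obtain ⟨b', hb'⟩ := exists_base (P := P) (x := P.coreflection j x) fun i h => by
    rw [root'_coreflection] at h
    exact root'_ne_zero hpos _ h
  exact ⟨b', fun i => by rw [hb', root'_coreflection, ← hiff, isPos_refl b hj]⟩

end Groth.Agent.RootDat.Cham
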