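import Mathlib.Analysis.Convex.Hull
import Mathlib.Analysis.Convex.Combination
import Mathlib.LinearAlgebra.BilinearForm.Basic
import Mathlib.Tactic.Linarith
import Mathlib.Tactic.FieldSimp
import Mathlib.Tactic.Ring

/-!
Closest points and separation for polytopes over an ordered field.
-/

set_option autoImplicit false
set_option linter.unusedSectionVars false
set_option linter.unusedVariables false

namespace Groth.Agent.RootDat.Cham

variable {R V : Type*} [Field R] [LinearOrder R] [IsStrictOrderedRing R] [AddCommGroup V]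
  [Module R V] {B : LinearMap.BilinForm R V}

lemma exists_proj (hs : ∀ x y : V, B x y = B y x) (hp : ∀ x : V, x ≠ 0 → 0 < B x x) {κ : Type*}
    (s : Finset κ) (g : κ → V) (x : V) :
    ∃ w ∈ Submodule.span R (g '' s), ∀ a ∈ s, B (x - w) (g a) = 0 := by
  classical
  induction s using Finset.induction_on generalizing x with
  | empty => exact ⟨0, zero_mem _, by simp⟩
  | @insert a s _ ih =>
    obtain ⟨u, hu, hu'⟩ := ih (g a)
    obtain ⟨w, hw, hw'⟩ := ih x
    have hsub : Submodule.span R (g '' s) ≤ Submodule.span R (g '' (insert a s : Finset κ)) :=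
      Submodule.span_mono (Set.image_mono (by simp))
    have horth : ∀ z : V, (∀ c ∈ s, B z (g c) = 0) → ∀ v ∈ Submodule.span R (g '' s), B z v = 0 :=
      fun z hz => (Submodule.span_le (p := LinearMap.ker (B z))).mpr
        (by rintro _ ⟨c, hc, rfl⟩; exact hz c hc)
    by_cases h0 : g a - u = 0
    · refine ⟨w, hsub hw, fun c hc => ?_⟩
      rcases Finset.mem_insert.mp hc with rfl | hc
      · rw [sub_eq_zero.mp h0]; exact horth _ hw' u hu
      · exact hw' c hc
    · set a' := g a - u
      have hpos := hp a' h0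
      have ha : B a' (g a) = B a' a' := by
        rw [show B a' a' = B a' (g a) - B a' u from map_sub (B a') _ _, horth a' hu' u hu, sub_zero]
      refine ⟨w + (B (x - w) (g a) / B a' a') • a', ?_, fun c hc => ?_⟩
      · refine add_mem (hsub hw) (Submodule.smul_mem _ _ (sub_mem ?_ (hsub hu)))
        exact Submodule.subset_span ⟨a, by simp, rfl⟩
      · rw [show x - (w + (B (x - w) (g a) / B a' a') • a') =
          (x - w) - (B (x - w) (g a) / B a' a') • a' by abel]
        rcases Finset.mem_insert.mp hc with rfl | hc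
        · rw [LinearMap.BilinForm.sub_left, LinearMap.BilinForm.smul_left, ha,
            div_mul_cancel₀ _ hpos.ne', sub_self]
        · rw [LinearMap.BilinForm.sub_left, LinearMap.BilinForm.smul_left, hw' c hc, hu' c hc,
            mul_zero, sub_zero]

lemma form_add (hs : ∀ x y : V, B x y = B y x) (x y : V) :
    B (x + y) (x + y) = B x x + 2 * B x y + B y y := by
  simp only [map_add, LinearMap.add_apply, hs y x]
  ring

lemma form_segment_le (hs : ∀ x y : V, B x y = B y x) (hp : ∀ x : V, x ≠ 0 → 0 < B x x)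
    (x y : V) {t : R} (h0 : 0 ≤ t) (h1 : t ≤ 1) :
    B ((1 - t) • x + t • y) ((1 - t) • x + t • y) ≤ (1 - t) * B x x + t * B y y := by
  have hnn : 0 ≤ B (x - y) (x - y) := by
    rcases eq_or_ne (x - y) 0 with h | h
    · simp [h]
    · exact (hp _ h).le
  simp only [map_add, map_sub, map_smul, LinearMap.add_apply, LinearMap.sub_apply,
    LinearMap.smul_apply, smul_eq_mul, hs y x] at hnn ⊢
  nlinarith [mul_nonneg (mul_nonneg h0 (sub_nonneg.mpr h1)) hnn]

lemma exists_min_aux (hs : ∀ x y : V, B x y = B y x) (hp : ∀ x : V, x ≠ 0 → 0 < B x x)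
    {κ : Type*} (g : κ → V) (n : ℕ) (s : Finset κ) (hn : s.card = n) (hne : s.Nonempty) :
    ∃ w : κ → R, (∀ a ∈ s, 0 ≤ w a) ∧ ∑ a ∈ s, w a = 1 ∧
      ∀ u : κ → R, (∀ a ∈ s, 0 ≤ u a) → ∑ a ∈ s, u a = 1 →
        B (∑ a ∈ s, w a • g a) (∑ a ∈ s, w a • g a) ≤
          B (∑ a ∈ s, u a • g a) (∑ a ∈ s, u a • g a) := by
  classical
  induction n using Nat.strong_induction_on generalizing s with
  | _ n ih =>
    obtain ⟨a₀, ha₀⟩ := hne
    -- the closest point of the affine span
    obtain ⟨p, hp', horth⟩ := exists_proj hs hp s (fun a => g a - g a₀) (g a₀)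
    obtain ⟨c', hc'⟩ := (Submodule.mem_span_image_finset_iff_exists_fun R).mp hp'
    let c : κ → R := fun a => if h : a ∈ s then c' ⟨a, h⟩ else 0
    have hc : ∑ a ∈ s, c a • (g a - g a₀) = p := by
      rw [← hc', ← Finset.sum_coe_sort s]
      exact Finset.sum_congr rfl fun a _ => by simp [c, a.2]
    set q : κ → R := fun a => -c a + if a = a₀ then 1 + ∑ b ∈ s, c b else 0
    have hq1 : ∑ a ∈ s, q a = 1 := by
      simp only [q, Finset.sum_add_distrib, Finset.sum_neg_distrib, Finset.sum_ite_eq' s a₀,
        ha₀, if_true]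
      ring
    have hqv : ∑ a ∈ s, q a • g a = g a₀ - p := by
      simp only [q, add_smul, neg_smul, ite_smul, zero_smul, Finset.sum_add_distrib,
        Finset.sum_neg_distrib, Finset.sum_ite_eq' s a₀, ha₀, if_true, ← hc, smul_sub,
        Finset.sum_sub_distrib, ← Finset.sum_smul, one_smul]
      abel
    have hqmin : ∀ u : κ → R, ∑ a ∈ s, u a = 1 →
        B (∑ a ∈ s, q a • g a) (∑ a ∈ s, q a • g a) ≤
          B (∑ a ∈ s, u a • g a) (∑ a ∈ s, u a • g a) := by
      intro u hu
      set x := ∑ a ∈ s, q a • g a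
      set y := ∑ a ∈ s, u a • g a
      have h0 : B x (y - x) = 0 := by
        have : y - x = ∑ a ∈ s, (u a - q a) • (g a - g a₀) := by
          simp only [x, y, smul_sub, Finset.sum_sub_distrib, sub_smul, ← Finset.sum_smul, hu, hq1]
          abel
        rw [this, map_sum]
        refine Finset.sum_eq_zero fun a ha => ?_
        rw [map_smul, hqv, horth a ha, smul_zero]
      have h := form_add hs x (y - x)
      rw [add_sub_cancel, h0] at h
      rcases eq_or_ne (y - x) 0 with e | e
      · simp only [e, map_zero] at h; linarith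
      · linarith [hp _ e]
    by_cases hall : ∀ a ∈ s, 0 ≤ q a
    · exact ⟨q, hall, hq1, fun u _ hu => hqmin u hu⟩
    push Not at hall
    obtain ⟨a₁, ha₁, hneg⟩ := hall
    have hne' : ∀ a ∈ s, (s.erase a).Nonempty := by
      intro a ha
      rw [Finset.nonempty_iff_ne_empty]
      intro he
      have h1 : ∑ b ∈ s, q b = q a := by
        rw [← Finset.add_sum_erase s q ha, he, Finset.sum_empty, add_zero]
      have ha' : a₁ = a := by
        by_contra hh
        exact Finset.notMem_empty _ (he ▸ Finset.mem_erase.mpr ⟨hh, ha₁⟩)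
      rw [hq1] at h1
      rw [ha', ← h1] at hneg
      linarith
    choose w hw0 hw1 hwmin using fun a (ha : a ∈ s) =>
      ih _ (by rw [← hn]; exact Finset.card_erase_lt_of_mem ha) (s.erase a) rfl (hne' a ha)
    obtain ⟨⟨a', ha'⟩, -, hbest⟩ := Finset.exists_min_image s.attach
      (fun a => B (∑ b ∈ s.erase a.1, w a.1 a.2 b • g b) (∑ b ∈ s.erase a.1, w a.1 a.2 b • g b))
      ⟨⟨a₀, ha₀⟩, Finset.mem_attach _ _⟩
    refine ⟨fun b => if b = a' then 0 else w a' ha' b, fun b hb => ?_, ?_, fun u hu0 hu1 => ?_⟩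
    · simp only
      split
      · exact le_rfl
      · exact hw0 a' ha' b (Finset.mem_erase.mpr ⟨by assumption, hb⟩)
    · rw [← Finset.add_sum_erase s _ ha', if_pos rfl, zero_add]
      exact (Finset.sum_congr rfl fun b hb => if_neg (Finset.mem_erase.mp hb).1).trans
        (hw1 a' ha')
    · have hv : ∑ b ∈ s, (if b = a' then 0 else w a' ha' b) • g b =
          ∑ b ∈ s.erase a', w a' ha' b • g b := by
        rw [← Finset.add_sum_erase s _ ha', if_pos rfl, zero_smul, zero_add]
        exact Finset.sum_congr rfl fun b hb => by rw [if_neg (Finset.mem_erase.mp hb).1]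
      rw [hv]
      -- move from `u` towards `q` until a weight vanishes
      obtain ⟨a, ha, hmin⟩ := Finset.exists_min_image (s.filter fun b => q b < 0)
        (fun b => u b / (u b - q b)) ⟨a₁, Finset.mem_filter.mpr ⟨ha₁, hneg⟩⟩
      obtain ⟨has, haq⟩ := Finset.mem_filter.mp ha
      set t := u a / (u a - q a) with ht
      have hua := hu0 a has
      have ht0 : 0 ≤ t := div_nonneg hua (by linarith)
      have ht1 : t ≤ 1 := by rw [ht, div_le_one (by linarith)]; linarith
      set z : κ → R := fun b => (1 - t) * u b + t * q b with hz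
      have hz0 : ∀ b ∈ s, 0 ≤ z b := by
        intro b hb
        rcases le_or_gt 0 (q b) with h | h
        · exact add_nonneg (mul_nonneg (by linarith) (hu0 b hb)) (mul_nonneg ht0 h)
        · have := hmin b (Finset.mem_filter.mpr ⟨hb, h⟩)
          rw [le_div_iff₀ (by linarith [hu0 b hb])] at this
          simp only [hz]
          nlinarith
      have hza : z a = 0 := by
        have : u a - q a ≠ 0 := by linarith
        simp only [hz, ht]
        field_simp
        ring
      have hz1 : ∑ b ∈ s.erase a, z b = 1 := by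
        rw [← zero_add (∑ b ∈ s.erase a, z b), ← hza, Finset.add_sum_erase s z has]
        simp only [hz, Finset.sum_add_distrib, ← Finset.mul_sum, hu1, hq1]
        ring
      have hzv : ∑ b ∈ s.erase a, z b • g b =
          (1 - t) • (∑ b ∈ s, u b • g b) + t • ∑ b ∈ s, q b • g b := by
        rw [Finset.sum_erase _ (by rw [hza, zero_smul])]
        simp only [hz, add_smul, mul_smul, Finset.sum_add_distrib, Finset.smul_sum]
      have h1 := hwmin a has z (fun b hb => hz0 b (Finset.mem_of_mem_erase hb)) hz1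
      have h2 := hbest ⟨a, has⟩ (Finset.mem_attach _ _)
      have h3 := form_segment_le hs hp (∑ b ∈ s, u b • g b) (∑ b ∈ s, q b • g b) ht0 ht1
      have h4 := mul_le_mul_of_nonneg_left (hqmin u hu1) ht0
      rw [← hzv] at h3
      simp only at h2
      linarith

/-- A point of least square norm in the convex hull of a finite set. -/
lemma exists_min_hull (hs : ∀ x y : V, B x y = B y x) (hp : ∀ x : V, x ≠ 0 → 0 < B x x)
    {A : Set V} (hA : A.Finite) (hne : A.Nonempty) :
    ∃ p ∈ convexHull R A, ∀ y ∈ convexHull R A, B p p ≤ B y y := by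
  classical
  obtain ⟨s, rfl⟩ := hA.exists_finset_coe
  obtain ⟨w, hw0, hw1, hmin⟩ := exists_min_aux hs hp id _ s rfl (Finset.coe_nonempty.mp hne)
  refine ⟨∑ a ∈ s, w a • a, (convex_convexHull R _).sum_mem hw0 hw1
    fun a ha => subset_convexHull R _ ha, fun y hy => ?_⟩
  rw [Finset.convexHull_eq] at hy
  obtain ⟨u, hu0, hu1, rfl⟩ := hy
  rw [Finset.centerMass_eq_of_sum_1 _ _ hu1]
  exact hmin u hu0 hu1

lemma first_order (hs : ∀ x y : V, B x y = B y x) (hp : ∀ x : V, x ≠ 0 → 0 < B x x) {C : Set V}
    (hC : Convex R C) {p y : V} (hpC : p ∈ C) (hy : y ∈ C) (hmin : ∀ z ∈ C, B p p ≤ B z z) :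
    B p p ≤ B p y := by
  by_contra! hlt
  set v := y - p
  have hd : B p v < 0 := by rw [map_sub]; linarith
  rcases eq_or_ne v 0 with e | e
  · rw [e, map_zero] at hd; exact lt_irrefl _ hd
  have hvv := hp v e
  set t := min 1 (-B p v / B v v)
  have ht0 : 0 < t := lt_min one_pos (div_pos (by linarith) hvv)
  have ht1 : t ≤ 1 := min_le_left _ _
  have hmem : p + t • v ∈ C := hC.add_smul_sub_mem hpC hy ⟨ht0.le, ht1⟩
  have h := hmin _ hmem
  rw [form_add hs] at h
  simp only [map_smul, LinearMap.smul_apply, smul_eq_mul] at h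
  have hle : t * B v v ≤ -B p v := (le_div_iff₀ hvv).mp (min_le_right _ _)
  have h5 := mul_le_mul_of_nonneg_left hle ht0.le
  nlinarith [mul_neg_of_pos_of_neg ht0 hd]

/-- A point outside a polytope is separated from it by a linear form. -/
lemma separate (hs : ∀ x y : V, B x y = B y x) (hp : ∀ x : V, x ≠ 0 → 0 < B x x)
    {A : Set V} (hA : A.Finite) {x : V} (hx : x ∉ convexHull R A) :
    ∃ φ : V →ₗ[R] R, ∀ a ∈ A, φ x < φ a := by
  rcases A.eq_empty_or_nonempty with rfl | hne
  · exact ⟨0, by simp⟩
  obtain ⟨p, hpm, hmin⟩ := exists_min_hull hs hp (hA.image fun a => -x + a) (hne.image _)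
  have hp0 : p ≠ 0 := by
    rintro rfl
    have hsub : (fun a => -x + a) '' A ⊆ (fun z => x + z) ⁻¹' convexHull R A := by
      rintro _ ⟨a, ha, rfl⟩
      simpa using subset_convexHull R A ha
    have := convexHull_min hsub ((convex_convexHull R A).translate_preimage_right x) hpm
    exact hx (by simpa using this)
  refine ⟨B p, fun a ha => ?_⟩
  have h := first_order hs hp (convex_convexHull R _) hpm
    (subset_convexHull R _ (Set.mem_image_of_mem _ ha)) hmin
  rw [map_add, map_neg] at h
  linarith [hp p hp0]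

end Groth.Agent.RootDat.Cham
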