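import Groth.Agent.RootDat.Cham.Facet
import Groth.Agent.RootDat.Cham.Hull

/-!
Complementary convex solids: monotonicity along galleries, dual solids, degrees, special facets.
-/

set_option autoImplicit false
set_option linter.unusedSectionVars false

namespace Groth.Agent.RootDat.Cham

open RootPairing RootCh Set Function Module

variable {ι R M N : Type*} [Field R] [LinearOrder R] [IsStrictOrderedRing R]
  [AddCommGroup M] [Module R M] [AddCommGroup N] [Module R N] [Finite ι]
  {P : RootPairing ι R M N} [P.IsRootSystem] [P.IsCrystallographic] [P.IsReduced]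
  {F G : Facet P} {b b' : P.Base} {d : P.Base → N}

lemma card_support_eq (b b' : P.Base) : b.support.card = b'.support.card := by
  rw [← Fintype.card_coe, ← Fintype.card_coe,
    ← Module.finrank_eq_card_basis b.toWeightBasis, ← Module.finrank_eq_card_basis b'.toWeightBasis]

lemma pair_sub (b : P.Base) (j : b.support) (ξ : M) {x y : N}
    (h : ∀ l : b.support, l ≠ j →
      P.toLinearMap (fundWeight b l) x = P.toLinearMap (fundWeight b l) y) :
    P.toLinearMap ξ y - P.toLinearMap ξ x = P.coroot' j ξ *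
      (P.toLinearMap (fundWeight b j) y - P.toLinearMap (fundWeight b j) x) := by
  rw [pair_expand b ξ x, pair_expand b ξ y, ← Finset.sum_sub_distrib, Finset.sum_eq_single j]
  · ring
  · intro l _ hl; rw [h l hl, sub_self]
  · simp

lemma pair_eq_of_pos_iff (hd : IsCCS d) (h : ∀ k, b.IsPos k ↔ b'.IsPos k) (ξ : M) :
    P.toLinearMap ξ (d b) = P.toLinearMap ξ (d b') := by
  rw [pair_expand b ξ, pair_expand b ξ]
  refine Finset.sum_congr rfl fun j _ => ?_
  rw [hd.corner_eq b b' _ (by rw [baseCorners_eq]; exact mem_range_self j)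
    ⟨⟨b, j, rfl⟩, closedChamber_congr h ▸ fundWeight_mem_closedChamber b j⟩]

/-- Crossing a wall. -/
lemma wall_step (hd : IsCCS d) {j : ι} (hj : j ∈ b'.support) {b'' : P.Base}
    (hb'' : ∀ i, b''.IsPos i ↔ (b'.IsPos i ∧ i ≠ j) ∨ i = neg P j) (ξ : M)
    (hξ : P.coroot' j ξ ≤ 0) :
    P.toLinearMap ξ (d b'') ≤ P.toLinearMap ξ (d b') := by
  have hjp := RootPairing.Base.isPos_of_mem_support (b := b') hj
  have hnn : ¬ b'.IsPos (neg P j) := fun h => (isPos_neg b' j).mp h hjp
  have hmem : ∀ l : b'.support, fundWeight b' l ∈ closedChamber b'' ↔ l ≠ ⟨j, hj⟩ := by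
    intro l
    constructor
    · rintro h rfl
      have := coroot'_nonneg h ((hb'' (neg P j)).mpr (Or.inr rfl))
      rw [coroot'_neg, coroot'_fundWeight_self b' ⟨j, hj⟩] at this
      linarith
    · intro hl
      rw [mem_closedChamber_iff]
      intro k hk
      rcases (hb'' k).mp hk with h | rfl
      · exact coroot'_nonneg (fundWeight_mem_closedChamber b' l) h.1
      · rw [coroot'_neg, coroot'_fundWeight_of_ne b' l ⟨j, hj⟩ (Ne.symm hl), neg_zero]
  have hcommon : ∀ l : b'.support, l ≠ ⟨j, hj⟩ →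
      P.toLinearMap (fundWeight b' l) (d b'') = P.toLinearMap (fundWeight b' l) (d b') :=
    fun l hl => hd.corner_eq b'' b' _ ⟨⟨b', l, rfl⟩, (hmem l).mpr hl⟩
      ⟨⟨b', l, rfl⟩, fundWeight_mem_closedChamber b' l⟩
  have hinter : baseCorners b'' ∩ baseCorners b' =
      fundWeight b' '' {l : b'.support | l ≠ ⟨j, hj⟩} := by
    ext w
    constructor
    · rintro ⟨⟨-, hw⟩, hw'⟩
      rw [baseCorners_eq] at hw'
      obtain ⟨l, rfl⟩ := hw'
      exact ⟨l, (hmem l).mp hw, rfl⟩
    · rintro ⟨l, hl, rfl⟩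
      exact ⟨⟨⟨b', l, rfl⟩, (hmem l).mpr hl⟩, ⟨b', l, rfl⟩, fundWeight_mem_closedChamber b' l⟩
  have hcard : (baseCorners b'' ∩ baseCorners b').ncard + 1 = b''.support.card := by
    rw [hinter, Set.ncard_image_of_injective _ (fundWeight_inj b'), card_support_eq b'' b',
      show {l : b'.support | l ≠ ⟨j, hj⟩} = univ \ {⟨j, hj⟩} by ext; simp,
      Set.ncard_sdiff_singleton_add_one (mem_univ _), Set.ncard_univ, Nat.card_eq_fintype_card,
      Fintype.card_coe]
  have hw := hd.wall_le b'' b' (neg P j) hcard fun k => by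
    constructor
    · rintro ⟨h, h'⟩
      exact ((hb'' k).mp h).resolve_left fun h'' => h' h''.1
    · rintro rfl
      exact ⟨(hb'' _).mpr (Or.inr rfl), hnn⟩
  rw [root'_neg, root'_neg, neg_le_neg_iff] at hw
  have h1 : P.toLinearMap (P.root j) (d b') ≤ P.toLinearMap (P.root j) (d b'') := hw
  have h2 := pair_sub b' ⟨j, hj⟩ (P.root j) (x := d b'') (y := d b') hcommon
  rw [show P.coroot' (⟨j, hj⟩ : b'.support).1 (P.root j) = 2 from P.pairing_same j] at h2
  have h3 := pair_sub b' ⟨j, hj⟩ ξ (x := d b'') (y := d b') hcommon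
  have h4 : P.toLinearMap (fundWeight b' ⟨j, hj⟩) (d b') ≤
      P.toLinearMap (fundWeight b' ⟨j, hj⟩) (d b'') := by linarith
  linarith [mul_nonneg_of_nonpos_of_nonpos hξ (sub_nonpos.mpr h4)]

/-- A dominant vector pairs least at its own chamber. -/
lemma le_pair (hd : IsCCS d) {ξ : M} (hξ : ξ ∈ closedChamber b) (b' : P.Base) :
    P.toLinearMap ξ (d b) ≤ P.toLinearMap ξ (d b') := by
  induction hn : {k | b.IsPos k ∧ ¬ b'.IsPos k}.ncard using Nat.strong_induction_on
    generalizing b' with
  | _ n ih =>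
    by_cases hall : ∀ j ∈ b'.support, b.IsPos j
    · have h : ∀ k, b'.IsPos k → b.IsPos k := fun k hk =>
        hk.induction_on_add hall fun i j k e hi hj => hi.add (hall j hj) e
      refine (pair_eq_of_pos_iff hd (fun k => ⟨fun hk => ?_, h k⟩) ξ).le
      by_contra hk'
      exact (isPos_neg b k).mp (h _ ((isPos_neg b' k).mpr hk')) hk
    · push Not at hall
      obtain ⟨j, hj, hjb⟩ := hall
      obtain ⟨b'', hb''⟩ := exists_refl_base b' hj
      have hjp := RootPairing.Base.isPos_of_mem_support (b := b') hj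
      have hnb : b.IsPos (neg P j) := (isPos_neg b j).mpr hjb
      have hlt : {k | b.IsPos k ∧ ¬ b''.IsPos k}.ncard < n := by
        rw [← hn]
        refine Set.ncard_lt_ncard ⟨fun k ⟨hk, hk'⟩ => ⟨hk, fun hk'' => hk' ((hb'' k).mpr
          (Or.inl ⟨hk'', fun e => hjb (e ▸ hk)⟩))⟩, fun h => ?_⟩ (toFinite _)
        exact (h ⟨hnb, fun h' => (isPos_neg b' j).mp h' hjp⟩).2 ((hb'' _).mpr (Or.inr rfl))
      refine (ih _ hlt b'' rfl).trans (wall_step hd hj hb'' ξ ?_)
      have := coroot'_nonneg hξ hnb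
      rw [coroot'_neg] at this
      linarith

lemma le_solid (hd : IsCCS d) {ξ : M} (hξ : ξ ∈ closedChamber b) {x : N} (hx : x ∈ solid d) :
    P.toLinearMap ξ (d b) ≤ P.toLinearMap ξ x :=
  convexHull_min (t := {y | P.toLinearMap ξ (d b) ≤ P.toLinearMap ξ y})
    (by rintro _ ⟨c, rfl⟩; exact le_pair hd hξ c)
    (convex_halfSpace_ge (P.toLinearMap ξ).isLinear _) hx

lemma dualSolid_subset_solid (F : Facet P) : dualSolid d F ⊆ solid d :=
  convexHull_mono (image_subset_range _ _)

lemma pair_eq_of_cham (hd : IsCCS d) (hb : b ∈ F.cham) (hb' : b' ∈ F.cham) {ξ : M}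
    (hξ : ξ ∈ Submodule.span R F.corners) :
    P.toLinearMap ξ (d b) = P.toLinearMap ξ (d b') := by
  induction hξ using Submodule.span_induction with
  | mem w hw =>
    exact hd.corner_eq b b' w (corners_subset_baseCorners hb hw) (corners_subset_baseCorners hb' hw)
  | zero => simp
  | add y z _ _ hy hz => simp [hy, hz]
  | smul a y _ hy => simp [hy]

lemma hyper_pair (hb : b ∈ F.cham) {x : N} (hx : x ∈ ⋂ m ∈ F.corners, hyper d m) {ξ : M}
    (hξ : ξ ∈ Submodule.span R F.corners) :
    P.toLinearMap ξ x = P.toLinearMap ξ (d b) := by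
  simp only [mem_iInter] at hx
  induction hξ using Submodule.span_induction with
  | mem w hw => exact hx w hw b (corners_subset_baseCorners hb hw)
  | zero => simp
  | add y z _ _ hy hz => simp [hy, hz]
  | smul a y _ hy => simp [hy]

lemma dualSolid_subset_hyper (hd : IsCCS d) {x : N} (hx : x ∈ dualSolid d F) :
    x ∈ ⋂ m ∈ F.corners, hyper d m := by
  refine convexHull_min ?_ (convex_iInter₂ fun m hm => ?_) hx
  · rintro _ ⟨b, hb, rfl⟩
    simp only [mem_iInter]
    exact fun m hm c hc => hd.corner_eq b c m (corners_subset_baseCorners hb hm) hc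
  · rw [show hyper d m = ⋂ c ∈ {c | m ∈ baseCorners c},
      {y | P.toLinearMap m y = P.toLinearMap m (d c)} by ext; simp [hyper]]
    exact convex_iInter₂ fun c _ => convex_hyperplane (P.toLinearMap m).isLinear _

lemma corootForm_symm [Fintype ι] (x y : N) : P.CorootForm x y = P.CorootForm y x := by
  simp only [corootForm_apply_apply, mul_comm]

variable (P) in
lemma exists_invForm : ∃ B : LinearMap.BilinForm R N, (∀ y z, B y z = B z y) ∧
    (∀ y, y ≠ 0 → 0 < B y y) ∧
    ∀ i y z, B (P.coreflection i y) (P.coreflection i z) = B y z := by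
  let := Fintype.ofFinite ι
  refine ⟨P.CorootForm, corootForm_symm, fun y hy => ?_, fun i y z => ?_⟩
  · refine P.flip.rootForm_pos_of_ne_zero ?_ hy
    change y ∈ P.corootSpan R
    rw [show P.corootSpan R = ⊤ from IsRootSystem.span_coroot_eq_top]
    trivial
  · exact P.flip.rootForm_reflection_reflection_apply i y z

lemma sep (A : Set N) (hA : A.Finite) {x : N}
    (h : ∀ ξ : M, ∃ a ∈ A, P.toLinearMap ξ a ≤ P.toLinearMap ξ x) : x ∈ convexHull R A := by
  by_contra hx
  obtain ⟨B, hs, hp, -⟩ := exists_invForm P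
  obtain ⟨φ, hφ⟩ := separate hs hp hA hx
  obtain ⟨a, ha, hle⟩ := h (P.toPerfPair.symm φ)
  rw [P.toLinearMap.apply_symm_toPerfPair_self] at hle
  exact (hφ a ha).not_ge hle

lemma finite_bases_image (s : Set P.Base) (d : P.Base → N) (hd : IsCCS d) :
    (d '' s).Finite := by
  -- the value of `d` only depends on the positive roots
  let f : P.Base → Set ι := fun b => {k | b.IsPos k}
  have : ∀ b b', f b = f b' → d b = d b' := fun b b' h =>
    P.flip.toPerfPair.injective (LinearMap.ext fun ξ => by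
      simpa using pair_eq_of_pos_iff hd (fun k => Set.ext_iff.mp h k) ξ)
  refine (Set.finite_range fun S : f '' s => d S.2.choose).subset ?_
  rintro _ ⟨b, hb, rfl⟩
  refine ⟨⟨f b, mem_image_of_mem f hb⟩, ?_⟩
  exact this _ _ (mem_image_of_mem f hb).choose_spec.2

lemma dualSolid_eq (hd : IsCCS d) (F : Facet P) :
    dualSolid d F = (⋂ m ∈ F.corners, hyper d m) ∩ ⋂ m ∈ F.corners', halfClosed d m := by
  apply subset_antisymm
  · intro x hx
    refine ⟨dualSolid_subset_hyper hd hx, ?_⟩
    simp only [mem_iInter]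
    exact fun m _ c hc => le_solid hd hc.2 (dualSolid_subset_solid F hx)
  · rintro x ⟨h₁, h₂⟩
    refine sep (P := P) _ (finite_bases_image _ d hd) fun ξ => ?_
    obtain ⟨v, hv⟩ := exists_dual_mem F
    obtain ⟨b, hb⟩ := exists_base_lex (P := P) v (dual P ξ)
    have hbF : b ∈ F.cham := by
      refine mem_cham_iff.mpr fun k hk h => ?_
      rw [← hv] at h
      have h' : 0 < P.root' (neg P k) v := by
        rw [root'_neg, neg_pos]; exact sign_eq_neg_one_iff.mp h
      exact (isPos_neg b k).mp ((hb _).1 h') hk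
    refine ⟨d b, mem_image_of_mem d hbF, ?_⟩
    rw [pair_expand b ξ (d b), pair_expand b ξ x]
    refine Finset.sum_le_sum fun j _ => ?_
    simp only [mem_iInter] at h₁ h₂
    have hm : fundWeight b j ∈ baseCorners b := ⟨⟨b, j, rfl⟩, fundWeight_mem_closedChamber b j⟩
    by_cases hj : j ∈ J F b
    · rw [h₁ _ (by rw [corners_eq hbF]; exact mem_image_of_mem _ hj) b hm]
    · refine mul_le_mul_of_nonneg_left (h₂ _ (mem_corners'.mpr ⟨b, hbF, j, rfl⟩) b hm) ?_
      by_contra hlt
      push Not at hlt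
      have hv0 : P.root' (neg P j) v = 0 := by
        have := sgn_eq_zero hbF hj
        rw [← hv] at this
        rw [root'_neg, show P.root' j v = 0 from sign_eq_zero_iff.mp this, neg_zero]
      have hpos : 0 < P.root' (neg P j) (dual P ξ) := by
        rw [← coroot'_pos_iff, coroot'_neg]; linarith
      exact (isPos_neg b j).mp ((hb _).2 hv0 hpos) (RootPairing.Base.isPos_of_mem_support j.2)

lemma cham_origin (b : P.Base) : b ∈ (Facet.origin P).cham :=
  mem_cham_iff.mpr fun k _ => by simp [Facet.origin, Facet.ofVec, sgnVec]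

lemma J_origin (b : P.Base) : J (Facet.origin P) b = ∅ := by
  ext j
  simp [mem_J, Facet.origin, Facet.ofVec, sgnVec]

lemma solid_eq_dualSolid : solid d = dualSolid d (Facet.origin P) := by
  rw [solid, dualSolid, ← image_univ]
  congr
  ext b
  simp [cham_origin]

lemma semistable_iff (hd : IsCCS d) :
    IsSemistable d ↔ ∀ (b : P.Base), ∀ m ∈ baseCorners b, P.toLinearMap m (d b) ≤ 0 := by
  refine ⟨fun h b m hm => by simpa using le_solid hd hm.2 h, fun h => ?_⟩
  rw [IsSemistable, solid_eq_dualSolid, dualSolid_eq hd]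
  obtain ⟨b₀⟩ := P.nonempty_base
  refine ⟨?_, ?_⟩
  · rw [corners_eq (cham_origin b₀), J_origin, image_empty]
    simp
  · simp only [mem_iInter]
    exact fun m _ c hc => by simpa using h c m hc

/-- The sum of the roots of the parabolic set of a facet. -/
noncomputable def vsum (F : Facet P) : M := ∑ i ∈ (Set.toFinite F.parab).toFinset, P.root i

lemma deg_eq (F : Facet P) (b : P.Base) : F.deg d b = P.toLinearMap (vsum F) (d b) := by
  rw [vsum, map_sum, LinearMap.sum_apply]
  rfl

lemma coroot'_sum_eq_zero {j : ι} {T : Finset ι} (hT : ∀ i ∈ T, P.reflectionPerm j i ∈ T) :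
    P.coroot' j (∑ i ∈ T, P.root i) = 0 := by
  have h := coroot'_reflection (P := P) j j (∑ i ∈ T, P.root i)
  rw [show P.reflectionPerm j j = neg P j from rfl, coroot'_neg] at h
  have hfix : P.reflection j (∑ i ∈ T, P.root i) = ∑ i ∈ T, P.root i := by
    rw [map_sum]
    refine Finset.sum_nbij' (P.reflectionPerm j) (P.reflectionPerm j) hT hT
      (fun i _ => P.reflectionPerm_self j i) (fun i _ => P.reflectionPerm_self j i) fun i _ => ?_
    rw [root_reflectionPerm]
  rw [hfix] at h
  linarith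

lemma pairing_simple_nonpos {i j : ι} (hi : i ∈ b.support) (hj : j ∈ b.support) (hne : i ≠ j) :
    P.pairing i j ≤ 0 := by
  rw [← P.algebraMap_pairingIn ℤ i j]
  simpa using b.pairingIn_le_zero_of_ne hne hi hj

lemma vsum_mem_carrier (F : Facet P) : vsum F ∈ F.carrier := by
  classical
  let := Fintype.ofFinite ι
  obtain ⟨b, hb⟩ := exists_cham F
  obtain ⟨x, hx⟩ := exists_dual_mem F
  set Z := Finset.univ.filter fun i => F.sgn i = 0 with hZ
  set U := Finset.univ.filter fun i => F.sgn i = 1 with hU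
  set S := Finset.univ.filter fun i => b.IsPos i with hS
  set Zp := Z.filter fun i => b.IsPos i with hZp
  have hsplit : (Set.toFinite F.parab).toFinset = U ∪ Z := by
    ext i
    simp only [Set.Finite.mem_toFinset, Facet.parab, hU, hZ, Finset.mem_union, Finset.mem_filter,
      Finset.mem_univ, true_and, mem_ofPred_eq]
    cases F.sgn i <;> simp
  have hdisj : Disjoint U Z := Finset.disjoint_filter.mpr fun i _ h h' => by
    rw [h] at h'; exact absurd h' (by decide)
  have hZsum : ∑ i ∈ Z, P.root i = 0 := by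
    refine Finset.sum_involution (fun i _ => neg P i) (fun i _ => by rw [root_neg, add_neg_cancel])
      (fun i _ _ e => ?_) (fun i hi => ?_) (fun i _ => RootDat.neg_neg P i)
    · have h2 : P.pairing i i = -2 := by
        conv_lhs => arg 2; rw [← e]
        show P.pairing (neg P i) i = -2
        rw [P.pairing_reflectionPerm_self_left, P.pairing_same]
      rw [P.pairing_same] at h2
      linarith
    · rw [hZ, Finset.mem_filter] at hi ⊢
      exact ⟨Finset.mem_univ _, by rw [sgn_neg, hi.2]; rfl⟩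
  have hv : vsum F = ∑ i ∈ U, P.root i := by
    rw [vsum, hsplit, Finset.sum_union hdisj, hZsum, add_zero]
  have hUS : S = U ∪ Zp := by
    ext i
    simp only [hS, hU, hZp, hZ, Finset.mem_union, Finset.mem_filter, Finset.mem_univ, true_and]
    constructor
    · intro hi
      rcases sgn_pos_cases hb hi with e | e
      · exact Or.inr ⟨e, hi⟩
      · exact Or.inl e
    · rintro (h | h)
      · exact isPos_of_sgn hb h
      · exact h.2
  refine (mem_carrier_iff hb _).mpr ⟨fun j hj => ?_, fun j hj => ?_⟩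
  · have h2 : P.coroot' j (∑ i ∈ S, P.root i) = 2 := by
      have hjS : (j : ι) ∈ S := Finset.mem_filter.mpr
        ⟨Finset.mem_univ _, RootPairing.Base.isPos_of_mem_support j.2⟩
      rw [← Finset.add_sum_erase S _ hjS, map_add, show P.coroot' j (P.root j) = 2 from
        P.pairing_same j, coroot'_sum_eq_zero fun i hi => ?_, add_zero]
      rw [Finset.mem_erase, hS, Finset.mem_filter] at hi ⊢
      refine ⟨fun e => ?_, Finset.mem_univ _, hi.2.2.reflectionPerm j.2 hi.1⟩
      have := congr_arg (P.reflectionPerm j) e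
      rw [P.reflectionPerm_self] at this
      rw [this] at hi
      exact (isPos_neg b j).mp hi.2.2 (RootPairing.Base.isPos_of_mem_support j.2)
    have hneg : P.coroot' j (∑ i ∈ Zp, P.root i) ≤ 0 := by
      rw [map_sum]
      refine Finset.sum_nonpos fun i hi => ?_
      obtain ⟨hiz, hip⟩ := Finset.mem_filter.mp hi
      rw [hZ, Finset.mem_filter] at hiz
      have hzero := (sgn_zero_iff hb i).mp hiz.2
      have hexp : P.root i = ∑ l : b.support, P.root' i (fundCoweight b l) • P.root l :=
        P.toPerfPair.injective (LinearMap.ext fun y => by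
          simp only [map_sum, map_smul, LinearMap.sum_apply, LinearMap.smul_apply, smul_eq_mul,
            LinearMap.toPerfPair_apply]
          simp only [mul_comm (P.root' i (fundCoweight b _))]
          exact root'_expand b i y)
      rw [hexp, map_sum]
      refine Finset.sum_nonpos fun l _ => ?_
      rw [map_smul, smul_eq_mul]
      rcases eq_or_ne l j with rfl | hlj
      · rw [hzero l hj, zero_mul]
      · exact mul_nonpos_of_nonneg_of_nonpos (fundCoweight_root'_nonneg l hip)
          (pairing_simple_nonpos l.2 j.2 fun e => hlj (Subtype.ext e))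
    rw [hUS, Finset.sum_union (hdisj.mono_right (Finset.filter_subset _ _)), ← hv, map_add] at h2
    linarith
  · rw [hv]
    refine coroot'_sum_eq_zero fun i hi => ?_
    have h0 := sgn_eq_zero hb hj
    rw [← hx] at h0
    rw [hU, Finset.mem_filter, ← hx] at hi ⊢
    refine ⟨Finset.mem_univ _, ?_⟩
    show SignType.sign (P.root' _ x) = 1
    rw [root'_refl, show P.root' j x = 0 from sign_eq_zero_iff.mp h0, mul_zero, sub_zero]
    exact hi.2

lemma vsum_mem_span (F : Facet P) : vsum F ∈ Submodule.span R F.corners :=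
  span_carrier F ▸ Submodule.subset_span (vsum_mem_carrier F)

lemma deg_eq_deg (hd : IsCCS d) (hb : b ∈ F.cham) (hb' : b' ∈ F.cham) :
    F.deg d b = F.deg d b' := by
  rw [deg_eq, deg_eq, pair_eq_of_cham hd hb hb' (vsum_mem_span F)]

lemma dim_eq (hb : b ∈ F.cham) : F.dim = (J F b).ncard := by
  classical
  have hli : LinearIndependent R fun j : J F b => fundWeight b j.1 := by
    rw [Fintype.linearIndependent_iff]
    intro g hg l
    have := congr_arg (P.coroot' l.1.1) hg
    rw [map_sum, map_zero, Finset.sum_eq_single l, map_smul, coroot'_fundWeight_self,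
      smul_eq_mul, mul_one] at this
    · exact this
    · intro m _ hm
      rw [map_smul, coroot'_fundWeight_of_ne b m.1 l.1 fun e => hm (Subtype.ext e.symm), smul_zero]
    · simp
  rw [Facet.dim, span_carrier, corners_eq hb, image_eq_range, finrank_span_eq_card hli,
    ← Nat.card_eq_fintype_card, Nat.card_coe_set_eq]

lemma deg_nonpos (hd : IsCCS d) (hs : IsSemistable d) (hb : b ∈ F.cham) : F.deg d b ≤ 0 := by
  rw [deg_eq, pair_expand b]
  obtain ⟨h₁, h₂⟩ := (mem_carrier_iff hb _).mp (vsum_mem_carrier F)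
  refine Finset.sum_nonpos fun j _ => mul_nonpos_of_nonneg_of_nonpos ?_
    ((semistable_iff hd).mp hs b _ (by rw [baseCorners_eq]; exact mem_range_self j))
  by_cases hj : j ∈ J F b
  · exact (h₁ j hj).le
  · exact (h₂ j hj).ge

lemma semistable_of_deg (hd : IsCCS d)
    (h : ∀ (F : Facet P) (b : P.Base), F.dim = 1 → b ∈ F.cham → F.deg d b ≤ 0) :
    IsSemistable d := by
  rw [semistable_iff hd]
  intro b m hm
  rw [baseCorners_eq] at hm
  obtain ⟨j, rfl⟩ := hm
  obtain ⟨F, hF, hJ⟩ := exists_facet b {j}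
  have hd1 : F.dim = 1 := by rw [dim_eq hF, hJ, Set.ncard_singleton]
  have := h F b hd1 hF
  obtain ⟨h₁, h₂⟩ := (mem_carrier_iff hF _).mp (vsum_mem_carrier F)
  rw [deg_eq, pair_expand b, Finset.sum_eq_single j
    (fun l _ hl => by rw [h₂ l (by rw [hJ]; exact hl), zero_mul]) (by simp)] at this
  exact nonpos_of_mul_nonpos_left (mul_comm (P.coroot' j _) _ ▸ this) (h₁ j (by rw [hJ]; rfl))

lemma form_coroot {B : LinearMap.BilinForm R N} (hs : ∀ y z, B y z = B z y)
    (hp : ∀ y, y ≠ 0 → 0 < B y y)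
    (hi : ∀ i y z, B (P.coreflection i y) (P.coreflection i z) = B y z) (i : ι) :
    ∃ k : R, 0 < k ∧ ∀ y, B y (P.coroot i) = k * P.root' i y := by
  have hne : P.coroot i ≠ 0 := P.flip.ne_zero i
  refine ⟨B (P.coroot i) (P.coroot i) / 2, div_pos (hp _ hne) two_pos, fun y => ?_⟩
  have h := hi i y (P.coroot i)
  rw [RootPairing.coreflection_apply, RootPairing.coreflection_apply,
    show P.root' i (P.coroot i) = 2 from P.pairing_same i] at h
  simp only [map_sub, map_smul, LinearMap.sub_apply, LinearMap.smul_apply, smul_eq_mul] at h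
  linarith

lemma exists_weight {B : LinearMap.BilinForm R N} (hs : ∀ y z, B y z = B z y)
    (hp : ∀ y, y ≠ 0 → 0 < B y y)
    (hi : ∀ i y z, B (P.coreflection i y) (P.coreflection i z) = B y z) (y : N) :
    ∃ ξ : M, (∀ x, P.toLinearMap ξ x = B y x) ∧ sgnVec P ξ = cosgnVec P y := by
  refine ⟨P.toPerfPair.symm (B y), fun x => by rw [P.toLinearMap.apply_symm_toPerfPair_self], ?_⟩
  ext i
  obtain ⟨k, hk, hk'⟩ := form_coroot hs hp hi i
  show SignType.sign (P.toLinearMap (P.toPerfPair.symm (B y)) (P.coroot i)) = _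
  rw [P.toLinearMap.apply_symm_toPerfPair_self, hk', sign_mul, sign_pos hk, one_mul]
  rfl

lemma root'_span_eq_zero (hb : b ∈ F.cham) {x : N} (hx : x ∈ Submodule.span R F.dualCarrier)
    {j : b.support} (hj : j ∉ J F b) : P.root' j x = 0 := by
  induction hx using Submodule.span_induction with
  | mem y hy =>
    have := sgn_eq_zero hb hj
    rw [← hy] at this
    exact sign_eq_zero_iff.mp this
  | zero => simp
  | add y z _ _ hy hz => rw [map_add, hy, hz, add_zero]
  | smul a y _ hy => rw [map_smul, hy, smul_zero]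

lemma yLocus_eq (hd : IsCCS d) {y : N} (hy : y ∈ dualSolid d F)
    (hy' : y ∈ Submodule.span R F.dualCarrier) : yLocus d F = {y} := by
  obtain ⟨b, hb⟩ := exists_cham F
  obtain ⟨B, hs, hp, hi⟩ := exists_invForm P
  have hyh := dualSolid_subset_hyper hd hy
  refine Set.eq_singleton_iff_unique_mem.mpr ⟨⟨hyh, hy'⟩, fun x ⟨hxh, hx⟩ => ?_⟩
  by_contra hne
  set z := x - y
  have hzspan : z ∈ Submodule.span R F.dualCarrier := sub_mem hx hy'
  obtain ⟨ξ, hξ, -⟩ := exists_weight hs hp hi z
  have hc : ξ ∈ Submodule.span R F.corners := (mem_span_corners_iff hb ξ).mpr fun j hj => by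
    obtain ⟨k, -, hk⟩ := form_coroot hs hp hi (j : ι)
    show P.toLinearMap ξ (P.coroot j) = 0
    rw [hξ, hk, root'_span_eq_zero hb hzspan hj, mul_zero]
  have h := hp z (sub_ne_zero.mpr hne)
  rw [show B z z = B z x - B z y from map_sub (B z) x y, ← hξ, ← hξ, hyper_pair hb hxh hc,
    hyper_pair hb hyh hc, sub_self] at h
  exact lt_irrefl 0 h

lemma special_min (hd : IsCCS d) {B : LinearMap.BilinForm R N} (hs : ∀ y z, B y z = B z y)
    (hp : ∀ y, y ≠ 0 → 0 < B y y)
    (hi : ∀ i y z, B (P.coreflection i y) (P.coreflection i z) = B y z) {y₀ : N}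
    (hy₀ : y₀ ∈ F.dualCarrier) (hy₀' : y₀ ∈ dualSolid d F) :
    ∀ y ∈ solid d, y ≠ y₀ → B y₀ y₀ < B y y := by
  intro y hy hne
  obtain ⟨b, hb⟩ := exists_cham F
  obtain ⟨ξ, hξ, hξs⟩ := exists_weight hs hp hi y₀
  have hξF : ξ ∈ F.carrier := hξs.trans hy₀
  have h1 := le_solid hd (hb hξF) hy
  rw [← hyper_pair hb (dualSolid_subset_hyper hd hy₀')
    (span_carrier F ▸ Submodule.subset_span hξF), hξ, hξ] at h1
  have h2 := form_add hs y₀ (y - y₀)
  rw [add_sub_cancel, map_sub (B y₀)] at h2
  linarith [hp _ (sub_ne_zero.mpr hne)]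

lemma mem_dualSolid_of_min (hd : IsCCS d) {B : LinearMap.BilinForm R N}
    (hs : ∀ y z, B y z = B z y) (hp : ∀ y, y ≠ 0 → 0 < B y y)
    (hi : ∀ i y z, B (P.coreflection i y) (P.coreflection i z) = B y z) {y₀ : N}
    (hy₀ : y₀ ∈ solid d) (hmin : ∀ y ∈ solid d, B y₀ y₀ ≤ B y y)
    (hF : y₀ ∈ F.dualCarrier) : y₀ ∈ dualSolid d F := by
  obtain ⟨ξ, hξ, hξs⟩ := exists_weight hs hp hi y₀
  have hξF : ξ ∈ F.carrier := hξs.trans hF
  rw [dualSolid_eq hd]
  refine ⟨?_, ?_⟩ <;> simp only [mem_iInter]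
  · intro m hm c hc
    obtain ⟨b, hb⟩ := exists_cham F
    obtain ⟨h₁, h₂⟩ := (mem_carrier_iff hb ξ).mp hξF
    have hle : ∀ j : b.support,
        P.toLinearMap (fundWeight b j) (d b) ≤ P.toLinearMap (fundWeight b j) y₀ :=
      fun j => le_solid hd (fundWeight_mem_closedChamber b j) hy₀
    have hge : P.toLinearMap ξ y₀ ≤ P.toLinearMap ξ (d b) := by
      rw [hξ, hξ]
      exact first_order hs hp (convex_convexHull R _) hy₀
        (subset_convexHull R _ (mem_range_self b)) hmin
    rw [pair_expand b ξ y₀, pair_expand b ξ (d b), ← sub_nonpos, ← Finset.sum_sub_distrib] at hge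
    have hterm : ∀ j : b.support, 0 ≤ P.coroot' j ξ * P.toLinearMap (fundWeight b j) y₀ -
        P.coroot' j ξ * P.toLinearMap (fundWeight b j) (d b) := fun j => by
      rw [← mul_sub]
      exact mul_nonneg (hb hξF j j.2) (sub_nonneg.mpr (hle j))
    have hzero := (Finset.sum_eq_zero_iff_of_nonneg fun (j : b.support) _ => hterm j).mp
      (le_antisymm hge (Finset.sum_nonneg fun j _ => hterm j))
    rw [corners_eq hb] at hm
    obtain ⟨j, hj, rfl⟩ := hm
    have := hzero j (Finset.mem_univ j)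
    rw [← mul_sub] at this
    rw [sub_eq_zero.mp ((mul_eq_zero.mp this).resolve_left (h₁ j hj).ne')]
    exact hd.corner_eq b c _ ⟨⟨b, j, rfl⟩, fundWeight_mem_closedChamber b j⟩ hc
  · exact fun m _ c hc => le_solid hd hc.2 hy₀

lemma exists_special (hd : IsCCS d) : ∃ F : Facet P, IsSpecial d F := by
  obtain ⟨B, hs, hp, hi⟩ := exists_invForm P
  obtain ⟨b₀⟩ := P.nonempty_base
  obtain ⟨y₀, hy₀, hmin⟩ := exists_min_hull hs hp (image_univ ▸ finite_bases_image univ d hd)
    ⟨d b₀, mem_range_self b₀⟩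
  obtain ⟨ξ, -, hξ⟩ := exists_weight hs hp hi y₀
  have hy : y₀ ∈ (Facet.ofVec P ξ).dualCarrier := hξ.symm
  exact ⟨_, y₀, hy, mem_dualSolid_of_min hd hs hp hi hy₀ hmin hy⟩

lemma special_unique (hd : IsCCS d) (hF : IsSpecial d F) (hG : IsSpecial d G) : F = G := by
  obtain ⟨B, hs, hp, hi⟩ := exists_invForm P
  obtain ⟨x, hx, hx'⟩ := hF
  obtain ⟨y, hy, hy'⟩ := hG
  have : x = y := by
    by_contra hne
    exact lt_asymm (special_min hd hs hp hi hx hx' y (dualSolid_subset_solid _ hy') (Ne.symm hne))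
      (special_min hd hs hp hi hy hy' x (dualSolid_subset_solid _ hx') hne)
  ext i
  rw [← hx, ← hy, this]

lemma deg_le_special (hd : IsCCS d) (hF : IsSpecial d F) (hb : b ∈ F.cham) {c : P.Base}
    (hc : c ∈ G.cham) :
    G.deg d c ≤ F.deg d b ∧ (G.deg d c = F.deg d b → G ≤ F) := by
  classical
  let := Fintype.ofFinite ι
  obtain ⟨y, hy, hy'⟩ := hF
  have hFd : F.deg d b = P.toLinearMap (vsum F) y := by
    rw [deg_eq, hyper_pair hb (dualSolid_subset_hyper hd hy') (vsum_mem_span F)]
  have hGd : G.deg d c ≤ P.toLinearMap (vsum G) y := by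
    rw [deg_eq]
    exact le_solid hd (hc (vsum_mem_carrier G)) (dualSolid_subset_solid _ hy')
  have hsum : ∀ H : Facet P, P.toLinearMap (vsum H) y =
      ∑ i, if i ∈ H.parab then P.root' i y else 0 := fun H => by
    rw [vsum, map_sum, LinearMap.sum_apply, ← Finset.sum_filter]
    refine Finset.sum_congr ?_ fun i _ => rfl
    ext i; simp
  have hpar : ∀ i, i ∈ F.parab ↔ 0 ≤ P.root' i y := fun i => by
    show F.sgn i ≠ -1 ↔ _
    rw [← hy]; exact sign_ne_neg_one_iff
  have hterm : ∀ i ∈ Finset.univ, (if i ∈ G.parab then P.root' i y else 0) ≤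
      if i ∈ F.parab then P.root' i y else 0 := fun i _ => by
    by_cases h : i ∈ G.parab <;> by_cases h' : i ∈ F.parab <;> simp only [h, h', if_true, if_false]
    · exact le_rfl
    · exact (not_le.mp (mt (hpar i).mpr h')).le
    · exact (hpar i).mp h'
    · exact le_rfl
  have hle := Finset.sum_le_sum hterm
  rw [← hsum, ← hsum, ← hFd] at hle
  refine ⟨hGd.trans hle, fun he => le_iff_parab.mpr fun i hi => ?_⟩
  have heq : P.toLinearMap (vsum G) y = P.toLinearMap (vsum F) y := by linarith
  rw [hsum, hsum] at heq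
  have := (Finset.sum_eq_sum_iff_of_le hterm).mp heq i (Finset.mem_univ i)
  by_contra h'
  rw [if_pos hi, if_neg h'] at this
  exact h' ((hpar i).mpr this.ge)

lemma psi_sum_mem_span (hb : b ∈ F.cham) {j : b.support} (hj : j ∈ J F b) :
    (∑ i ∈ (Set.toFinite (F.Psi (fundWeight b j))).toFinset, P.root i) ∈
      Submodule.span R F.corners := by
  rw [mem_span_corners_iff hb]
  intro l hl
  refine coroot'_sum_eq_zero fun i hi => ?_
  rw [Set.Finite.mem_toFinset] at hi ⊢
  obtain ⟨h₁, h₂⟩ := hi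
  have hfix : ∀ k ∈ J F b, P.root' (P.reflectionPerm l i) (fundCoweight b k) =
      P.root' i (fundCoweight b k) := fun k hk => by
    rw [root'_refl, root'_fundCoweight_of_ne b k l (fun e => hl (e ▸ hk)), mul_zero, sub_zero]
  refine ⟨fun x hx => ?_, fun w' hw' hne x hx => ?_⟩
  · rw [corr_unique hx, hfix j hj]
    exact h₁ _ ⟨b, j, rfl, rfl⟩
  · rw [corners_eq hb] at hw'
    obtain ⟨k, hk, rfl⟩ := hw'
    rw [corr_unique hx, hfix k hk]
    exact h₂ _ (by rw [corners_eq hb]; exact ⟨k, hk, rfl⟩) hne _ ⟨b, k, rfl, rfl⟩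

lemma numInv_eq (F : Facet P) (w : M) (b : P.Base) :
    F.numInv d w b =
      P.toLinearMap (∑ i ∈ (Set.toFinite (F.Psi w)).toFinset, P.root i) (d b) := by
  rw [map_sum, LinearMap.sum_apply]
  rfl

lemma self_mem_psi (hb : b ∈ F.cham) (j : b.support) : (j : ι) ∈ F.Psi (fundWeight b j) := by
  refine ⟨fun x hx => by rw [corr_unique hx, root'_fundCoweight_self], fun w' hw' hne x hx => ?_⟩
  rw [corners_eq hb] at hw'
  obtain ⟨k, hk, rfl⟩ := hw'
  rw [corr_unique hx, root'_fundCoweight_of_ne b k j fun e => hne (by rw [e])]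

lemma numInv_pos_iff (hd : IsCCS d) (hb : b ∈ F.cham) {j : b.support} (hj : j ∈ J F b) {y : N}
    (hy : y ∈ dualSolid d F) (hy' : y ∈ Submodule.span R F.dualCarrier) :
    0 < F.numInv d (fundWeight b j) b ↔ 0 < P.root' j y := by
  rw [numInv_eq, ← hyper_pair hb (dualSolid_subset_hyper hd hy) (psi_sum_mem_span hb hj), map_sum,
    LinearMap.sum_apply]
  have hval : ∀ i ∈ (Set.toFinite (F.Psi (fundWeight b j))).toFinset,
      P.toLinearMap (P.root i) y = P.root' j y := by
    intro i hi
    rw [Set.Finite.mem_toFinset] at hi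
    show P.root' i y = _
    rw [root'_expand b i y, Finset.sum_eq_single j]
    · rw [hi.1 _ ⟨b, j, rfl, rfl⟩, mul_one]
    · intro k _ hk
      by_cases hkJ : k ∈ J F b
      · rw [hi.2 _ (by rw [corners_eq hb]; exact ⟨k, hkJ, rfl⟩)
          (fun e => hk (fundWeight_inj b e)) _ ⟨b, k, rfl, rfl⟩, mul_zero]
      · rw [root'_span_eq_zero hb hy' hkJ, zero_mul]
    · simp
  rw [Finset.sum_congr rfl hval, Finset.sum_const, nsmul_eq_mul, mul_pos_iff_of_pos_left]
  exact Nat.cast_pos.mpr (Finset.card_pos.mpr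
    ⟨j, (Set.Finite.mem_toFinset _).mpr (self_mem_psi hb j)⟩)

end Groth.Agent.RootDat.Cham
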