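import Groth.Agent.RootDat.Cham.Basic

/-!
Facets of a root system over an ordered field: adjacent chambers, corners, parabolic sets of roots.
-/

set_option autoImplicit false
set_option linter.unusedSectionVars false

namespace Groth.Agent.RootDat.Cham

open RootPairing RootCh Set Function Module

variable {ι R M N : Type*} [Field R] [LinearOrder R] [IsStrictOrderedRing R]
  [AddCommGroup M] [Module R M] [AddCommGroup N] [Module R N] [Finite ι]
  {P : RootPairing ι R M N} [P.IsRootSystem] [P.IsCrystallographic]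

lemma sgn_neg (F : Facet P) (k : ι) : F.sgn (neg P k) = -F.sgn k := by
  obtain ⟨ξ, hξ⟩ := F.exists_sgnVec_eq
  simp only [← hξ, sgnVec, coroot'_neg, Left.sign_neg]

lemma mem_carrier {F : Facet P} {ξ : M} : ξ ∈ F.carrier ↔ sgnVec P ξ = F.sgn := Iff.rfl

lemma mem_dualCarrier {F : Facet P} {x : N} :
    x ∈ F.dualCarrier ↔ cosgnVec P x = F.sgn := Iff.rfl

lemma carrier_nonempty (F : Facet P) : F.carrier.Nonempty := F.exists_sgnVec_eq

lemma exists_dual_mem (F : Facet P) : ∃ x, x ∈ F.dualCarrier := by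
  obtain ⟨ξ, hξ⟩ := F.exists_sgnVec_eq
  exact ⟨dual P ξ, (cosgn_dual ξ).trans hξ⟩

lemma cosgn_smul_pos {c : R} (hc : 0 < c) (x : N) : cosgnVec P (c • x) = cosgnVec P x := by
  ext i
  simp only [cosgnVec, map_smul, smul_eq_mul, sign_mul, sign_pos hc, one_mul]

lemma sgnVec_fundWeight (b : P.Base) (i : b.support) :
    sgnVec P (fundWeight b i) = cosgnVec P (fundCoweight b i) := by
  obtain ⟨c, hc, h⟩ := dual_fundWeight b i
  rw [← cosgn_dual, h, cosgn_smul_pos hc]

lemma sign_ne_neg_one_iff {x : R} : SignType.sign x ≠ -1 ↔ 0 ≤ x := by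
  rw [ne_eq, sign_eq_neg_one_iff, not_lt]

variable [P.IsReduced] {F G : Facet P} {b : P.Base}

lemma mem_cham_iff : b ∈ F.cham ↔ ∀ k, b.IsPos k → F.sgn k ≠ -1 := by
  constructor
  · intro h k hk
    obtain ⟨ξ, hξ⟩ := carrier_nonempty F
    rw [← hξ]
    exact sign_ne_neg_one_iff.mpr (coroot'_nonneg (h hξ) hk)
  · intro h ξ hξ j hj
    have := h j (RootPairing.Base.isPos_of_mem_support hj)
    rw [← hξ] at this
    exact sign_ne_neg_one_iff.mp this

lemma exists_cham (F : Facet P) : ∃ b : P.Base, b ∈ F.cham := by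
  obtain ⟨x, hx⟩ := exists_dual_mem F
  obtain ⟨b, hb⟩ := exists_base_lex (P := P) x 0
  refine ⟨b, mem_cham_iff.mpr fun k hk h => ?_⟩
  rw [← hx] at h
  have h' : 0 < P.root' (neg P k) x := by
    rw [root'_neg, neg_pos]; exact sign_eq_neg_one_iff.mp h
  exact (isPos_neg b k).mp ((hb _).1 h') hk

/-- The simple indices of `b` positive on `F`. -/
def J (F : Facet P) (b : P.Base) : Set b.support := {j | F.sgn j = 1}

lemma mem_J {j : b.support} : j ∈ J F b ↔ F.sgn j = 1 := Iff.rfl

lemma sgn_pos_cases (hb : b ∈ F.cham) {k : ι} (hk : b.IsPos k) : F.sgn k = 0 ∨ F.sgn k = 1 := by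
  have := mem_cham_iff.mp hb k hk
  revert this
  cases F.sgn k <;> simp

lemma sgn_eq_zero (hb : b ∈ F.cham) {j : b.support} (hj : j ∉ J F b) : F.sgn j = 0 :=
  (sgn_pos_cases hb (RootPairing.Base.isPos_of_mem_support j.2)).resolve_right hj

lemma isPos_of_sgn (hb : b ∈ F.cham) {k : ι} (hk : F.sgn k = 1) : b.IsPos k := by
  by_contra h
  have := mem_cham_iff.mp hb _ ((isPos_neg b k).mpr h)
  rw [sgn_neg, hk] at this
  exact this rfl

lemma dual_dominant (hb : b ∈ F.cham) {x : N} (hx : x ∈ F.dualCarrier) :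
    ∀ j ∈ b.support, 0 ≤ P.root' j x := fun j hj => by
  have := mem_cham_iff.mp hb j (RootPairing.Base.isPos_of_mem_support hj)
  rw [← hx] at this
  exact sign_ne_neg_one_iff.mp this

lemma sgn_zero_iff (hb : b ∈ F.cham) (k : ι) :
    F.sgn k = 0 ↔ ∀ j ∈ J F b, P.root' k (fundCoweight b j) = 0 := by
  obtain ⟨x, hx⟩ := exists_dual_mem F
  constructor
  · intro h j hj
    rw [← hx] at h
    refine coef_eq_zero (dual_dominant hb hx) (sign_eq_zero_iff.mp h) fun e => ?_
    rw [mem_J, ← hx] at hj
    simp [cosgnVec, e] at hj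
  · intro h
    rw [← hx]
    show SignType.sign (P.root' k x) = 0
    rw [sign_eq_zero_iff, root'_expand b k x]
    refine Finset.sum_eq_zero fun j _ => ?_
    by_cases hj : j ∈ J F b
    · rw [h j hj, mul_zero]
    · have h0 := sgn_eq_zero hb hj
      rw [← hx] at h0
      rw [show P.root' j x = 0 from sign_eq_zero_iff.mp h0, zero_mul]

lemma mem_closure_iff (hb : b ∈ F.cham) (ξ : M) :
    ξ ∈ F.closure ↔ ξ ∈ closedChamber b ∧ ∀ j : b.support, j ∉ J F b → P.coroot' j ξ = 0 := by
  constructor
  · intro h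
    refine ⟨fun j hj => ?_, fun j hj => ?_⟩
    · rcases h j with h' | h'
      · exact (sign_eq_zero_iff.mp h').ge
      · exact sign_ne_neg_one_iff.mp
          (h'.trans_ne (mem_cham_iff.mp hb j (RootPairing.Base.isPos_of_mem_support hj)))
    · rcases h j with h' | h'
      · exact sign_eq_zero_iff.mp h'
      · exact sign_eq_zero_iff.mp (h'.trans (sgn_eq_zero hb hj))
  · rintro ⟨hd, h0⟩ k
    show SignType.sign (P.coroot' k ξ) = 0 ∨ SignType.sign (P.coroot' k ξ) = F.sgn k
    cases hk : F.sgn k with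
    | zero =>
      left
      rw [sign_eq_zero_iff, coroot'_zero_iff, root'_expand b k (dual P ξ)]
      refine Finset.sum_eq_zero fun j _ => ?_
      by_cases hj : j ∈ J F b
      · rw [(sgn_zero_iff hb k).mp hk j hj, mul_zero]
      · rw [(coroot'_zero_iff _ _).mp (h0 j hj), zero_mul]
    | pos =>
      rcases (coroot'_nonneg hd (isPos_of_sgn hb hk)).eq_or_lt with h' | h'
      · left; rw [← h', sign_zero]
      · right; rw [sign_pos h']; rfl
    | neg =>
      have hn : F.sgn (neg P k) = 1 := by rw [sgn_neg, hk]; rfl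
      have := coroot'_nonneg hd (isPos_of_sgn hb hn)
      rw [coroot'_neg] at this
      rcases (neg_nonneg.mp this).eq_or_lt with h' | h'
      · left; rw [h', sign_zero]
      · right; rw [sign_neg h']; rfl

lemma sgn_congr (hF : b ∈ F.cham) (hG : b ∈ G.cham)
    (h : ∀ j : b.support, F.sgn j = G.sgn j) : F = G := by
  have hJ : J F b = J G b := by ext j; rw [mem_J, mem_J, h j]
  have h0 : ∀ k, F.sgn k = 0 ↔ G.sgn k = 0 := fun k => by
    rw [sgn_zero_iff hF, sgn_zero_iff hG, hJ]
  have key : ∀ {A B : Facet P}, b ∈ A.cham → b ∈ B.cham → (∀ k, A.sgn k = 0 ↔ B.sgn k = 0) →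
      ∀ k, b.IsPos k → A.sgn k = B.sgn k := by
    intro A B hA hB h k hk
    rcases sgn_pos_cases hA hk with e | e
    · rw [e, (h k).mp e]
    · rcases sgn_pos_cases hB hk with e' | e'
      · rw [(h k).mpr e'] at e; exact absurd e (by decide)
      · rw [e, e']
  ext k
  by_cases hk : b.IsPos k
  · exact key hF hG h0 k hk
  · have := key hF hG h0 _ ((isPos_neg b k).mpr hk)
    rwa [sgn_neg, sgn_neg, neg_inj] at this

lemma exists_facet (b : P.Base) (S : Set b.support) :
    ∃ F : Facet P, b ∈ F.cham ∧ J F b = S := by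
  classical
  set ξ : M := ∑ k : b.support, (if k ∈ S then (1 : R) else 0) • fundWeight b k
  have hξ : ∀ j : b.support, P.coroot' j ξ = if j ∈ S then 1 else 0 := coroot'_sum b _
  refine ⟨Facet.ofVec P ξ, mem_cham_iff.mpr fun k hk => sign_ne_neg_one_iff.mpr ?_, ?_⟩
  · refine coroot'_nonneg (fun j hj => ?_) hk
    rw [hξ ⟨j, hj⟩]
    split <;> norm_num
  · ext j
    show SignType.sign (P.coroot' j ξ) = 1 ↔ _
    rw [sign_eq_one_iff, hξ]
    split <;> simp_all

lemma mem_carrier_iff (hb : b ∈ F.cham) (ξ : M) :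
    ξ ∈ F.carrier ↔
      (∀ j ∈ J F b, 0 < P.coroot' j ξ) ∧ ∀ j : b.support, j ∉ J F b → P.coroot' j ξ = 0 := by
  constructor
  · intro h
    refine ⟨fun j hj => ?_, fun j hj => ?_⟩
    · rw [mem_J, ← h] at hj
      exact sign_eq_one_iff.mp hj
    · have := sgn_eq_zero hb hj
      rw [← h] at this
      exact sign_eq_zero_iff.mp this
  · rintro ⟨h₁, h₂⟩
    have hd : ξ ∈ closedChamber b := fun j hj => by
      by_cases h : (⟨j, hj⟩ : b.support) ∈ J F b
      · exact (h₁ _ h).le
      · exact (h₂ _ h).ge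
    have hG : b ∈ (Facet.ofVec P ξ).cham :=
      mem_cham_iff.mpr fun k hk => sign_ne_neg_one_iff.mpr (coroot'_nonneg hd hk)
    show (Facet.ofVec P ξ).sgn = F.sgn
    rw [sgn_congr hG hb fun j => ?_]
    show SignType.sign (P.coroot' j ξ) = _
    by_cases h : j ∈ J F b
    · rw [sign_pos (h₁ j h), h]
    · rw [h₂ j h, sign_zero, sgn_eq_zero hb h]

lemma fundWeight_closure_iff (hb : b ∈ F.cham) (j : b.support) :
    fundWeight b j ∈ F.closure ↔ j ∈ J F b := by
  rw [mem_closure_iff hb]
  refine ⟨fun ⟨_, h⟩ => ?_, fun hj => ⟨fundWeight_mem_closedChamber b j,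
    fun l hl => coroot'_fundWeight_of_ne b j l fun e => hl (e ▸ hj)⟩⟩
  by_contra hj
  have := h j hj
  rw [coroot'_fundWeight_self] at this
  exact one_ne_zero this

lemma corners_eq (hb : b ∈ F.cham) : F.corners = fundWeight b '' J F b := by
  ext w
  constructor
  · rintro ⟨⟨b', i, rfl⟩, hw⟩
    obtain ⟨j, hj⟩ := exists_eq_fundWeight i ((mem_closure_iff hb _).mp hw).1
    exact ⟨j, (fundWeight_closure_iff hb j).mp (hj ▸ hw), hj.symm⟩
  · rintro ⟨j, hj, rfl⟩
    exact ⟨⟨b, j, rfl⟩, (fundWeight_closure_iff hb j).mpr hj⟩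

lemma corners_subset_baseCorners (hb : b ∈ F.cham) : F.corners ⊆ baseCorners b := by
  rw [corners_eq hb, baseCorners_eq]
  exact image_subset_range _ _

lemma mem_corners' {m : M} :
    m ∈ F.corners' ↔ ∃ b ∈ F.cham, ∃ j : b.support, fundWeight b j = m := by
  simp only [Facet.corners', mem_iUnion, baseCorners_eq, exists_prop, mem_range]

lemma dualCorners_eq (hb : b ∈ F.cham) : F.dualCorners = fundCoweight b '' J F b := by
  ext y
  have hcl : ∀ (b' : P.Base) (i : b'.support),
      fundCoweight b' i ∈ F.dualClosure ↔ fundWeight b' i ∈ F.closure := fun b' i => by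
    simp only [Facet.dualClosure, Facet.closure, mem_ofPred_eq, sgnVec_fundWeight]
  constructor
  · rintro ⟨hy, hy'⟩
    obtain ⟨b', i, rfl⟩ := mem_fundCoweights.mp hy
    have hw : fundWeight b' i ∈ F.corners := ⟨⟨b', i, rfl⟩, (hcl b' i).mp hy'⟩
    rw [corners_eq hb] at hw
    obtain ⟨j, hj, e⟩ := hw
    exact ⟨j, hj, (corr_unique ⟨b', i, e.symm, rfl⟩).symm⟩
  · rintro ⟨j, hj, rfl⟩
    exact ⟨mem_fundCoweights.mpr ⟨b, j, rfl⟩, (hcl b j).mpr ((fundWeight_closure_iff hb j).mpr hj)⟩

/-- Vectors supported on the corners of a facet only see a coweight through these corners. -/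
lemma pair_congr {ξ : M} (hξ : ∀ j : b.support, j ∉ J F b → P.coroot' j ξ = 0) {x y : N}
    (h : ∀ j ∈ J F b, P.toLinearMap (fundWeight b j) x = P.toLinearMap (fundWeight b j) y) :
    P.toLinearMap ξ x = P.toLinearMap ξ y := by
  rw [pair_expand b ξ x, pair_expand b ξ y]
  refine Finset.sum_congr rfl fun j _ => ?_
  by_cases hj : j ∈ J F b
  · rw [h j hj]
  · rw [hξ j hj, zero_mul, zero_mul]

lemma mem_span_corners_iff (hb : b ∈ F.cham) (ξ : M) :
    ξ ∈ Submodule.span R F.corners ↔ ∀ j : b.support, j ∉ J F b → P.coroot' j ξ = 0 := by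
  rw [corners_eq hb]
  constructor
  · intro h j hj
    induction h using Submodule.span_induction with
    | mem y hy =>
      obtain ⟨l, hl, rfl⟩ := hy
      exact coroot'_fundWeight_of_ne b l j fun e => hj (e ▸ hl)
    | zero => simp
    | add y z _ _ hy hz => rw [map_add, hy, hz, add_zero]
    | smul a y _ hy => rw [map_smul, hy, smul_zero]
  · intro h
    rw [eq_sum_coroot' b ξ]
    refine Submodule.sum_mem _ fun j _ => ?_
    by_cases hj : j ∈ J F b
    · exact Submodule.smul_mem _ _ (Submodule.subset_span (mem_image_of_mem _ hj))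
    · rw [h j hj, zero_smul]; exact zero_mem _

lemma span_carrier (F : Facet P) :
    Submodule.span R F.carrier = Submodule.span R F.corners := by
  obtain ⟨b, hb⟩ := exists_cham F
  refine le_antisymm (Submodule.span_le.mpr fun ξ hξ =>
    (mem_span_corners_iff hb ξ).mpr ((mem_carrier_iff hb ξ).mp hξ).2) (Submodule.span_le.mpr ?_)
  rw [corners_eq hb]
  rintro _ ⟨j, hj, rfl⟩
  obtain ⟨ξ, hξ⟩ := carrier_nonempty F
  obtain ⟨h₁, h₂⟩ := (mem_carrier_iff hb ξ).mp hξ
  have : ξ + fundWeight b j ∈ F.carrier := by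
    refine (mem_carrier_iff hb _).mpr ⟨fun l hl => ?_, fun l hl => ?_⟩ <;> rw [map_add]
    · exact add_pos_of_pos_of_nonneg (h₁ l hl) (fundWeight_mem_closedChamber b j l l.2)
    · rw [h₂ l hl, coroot'_fundWeight_of_ne b j l (fun e => hl (e ▸ hj)), add_zero]
  simpa using sub_mem (Submodule.subset_span (R := R) this) (Submodule.subset_span hξ)

lemma carrier_eq (F : Facet P) :
    F.carrier = {ξ : M | ∃ c : M →₀ R, (c.support : Set M) ⊆ F.corners ∧
      (∀ m ∈ F.corners, 0 < c m) ∧ c.sum (fun m r => r • m) = ξ} := by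
  classical
  obtain ⟨b, hb⟩ := exists_cham F
  rw [corners_eq hb]
  ext ξ
  rw [mem_carrier_iff hb]
  constructor
  · rintro ⟨h₁, h₂⟩
    set c : M →₀ R := ∑ j : b.support, Finsupp.single (fundWeight b j) (P.coroot' j ξ) with hc
    have hcl : ∀ l, c (fundWeight b l) = P.coroot' l ξ := fun l => by
      rw [hc, Finsupp.finsetSum_apply, Finset.sum_eq_single l]
      · simp
      · intro j _ hj
        rw [Finsupp.single_eq_of_ne fun e => hj (fundWeight_inj b e).symm]
      · simp
    refine ⟨c, fun m hm => ?_, ?_, ?_⟩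
    · rw [Finset.mem_coe, Finsupp.mem_support_iff, hc, Finsupp.finsetSum_apply] at hm
      obtain ⟨j, -, hj⟩ := Finset.exists_ne_zero_of_sum_ne_zero hm
      rw [Finsupp.single_apply] at hj
      split at hj
      · rename_i e
        exact ⟨j, by_contra fun hn => hj (h₂ j hn), e⟩
      · exact absurd rfl hj
    · rintro _ ⟨j, hj, rfl⟩
      rw [hcl]; exact h₁ j hj
    · show Finsupp.linearCombination R id c = ξ
      rw [hc, map_sum]
      simp only [Finsupp.linearCombination_single, id]
      exact (eq_sum_coroot' b ξ).symm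
  · rintro ⟨c, hcs, hcp, rfl⟩
    have hval : ∀ l : b.support, P.coroot' l (c.sum fun m r => r • m) = c (fundWeight b l) := by
      intro l
      rw [Finsupp.sum, map_sum, Finset.sum_eq_single (fundWeight b l)]
      · rw [map_smul, coroot'_fundWeight_self, smul_eq_mul, mul_one]
      · intro m hm hne
        obtain ⟨j, -, rfl⟩ := hcs hm
        rw [map_smul, coroot'_fundWeight_of_ne b j l fun e => hne (by rw [e]), smul_zero]
      · intro hm
        rw [Finsupp.notMem_support_iff.mp hm, zero_smul, map_zero]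
    refine ⟨fun j hj => hval j ▸ hcp _ (mem_image_of_mem _ hj), fun j hj => hval j ▸ ?_⟩
    by_contra hne
    obtain ⟨l, hl, e⟩ := hcs (Finsupp.mem_support_iff.mpr hne)
    exact hj (fundWeight_inj b e ▸ hl)

lemma eq_of_corners_eq (h : F.corners = G.corners) : F = G := by
  obtain ⟨ξ, hξ⟩ := carrier_nonempty F
  have hξ' : ξ ∈ G.carrier := by rwa [carrier_eq G, ← h, ← carrier_eq F]
  ext k
  rw [← hξ, hξ']

lemma le_iff_parab : F ≤ G ↔ F.parab ⊆ G.parab := by
  constructor
  · intro h k hk
    show G.sgn k ≠ -1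
    rcases h k with e | e <;> rw [e]
    · decide
    · exact hk
  · intro h k
    have h1 : G.sgn k = 1 → F.sgn k = 1 := fun e => by
      by_contra hne
      have : neg P k ∈ F.parab := by
        show F.sgn (neg P k) ≠ -1
        rw [sgn_neg, ne_eq, neg_inj]; exact hne
      have := h this
      exact this (by rw [sgn_neg, e])
    have h2 : G.sgn k = -1 → F.sgn k = -1 := fun e => by
      by_contra hne
      exact h hne e
    revert h1 h2
    cases G.sgn k <;> cases F.sgn k <;> simp

lemma eq_of_parab_eq (h : F.parab = G.parab) : F = G :=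
  le_antisymm (le_iff_parab.mpr h.le) (le_iff_parab.mpr h.ge)

lemma corners_eq_corr (hb : b ∈ F.cham) :
    F.corners = {m : M | m ∈ fundWeights P ∧
      ∀ y : N, Corr P m y → ∀ i ∈ F.parab, 0 ≤ P.root' i y} := by
  ext m
  constructor
  · intro hm
    rw [corners_eq hb] at hm
    obtain ⟨j, hj, rfl⟩ := hm
    refine ⟨⟨b, j, rfl⟩, fun y hy i hi => ?_⟩
    rw [corr_unique hy]
    by_cases hip : b.IsPos i
    · exact fundCoweight_root'_nonneg j hip
    · rcases sgn_pos_cases hb ((isPos_neg b i).mpr hip) with e | e <;> rw [sgn_neg] at e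
      · exact ((sgn_zero_iff hb i).mp (SignType.neg_eq_zero_iff.mp e) j hj).ge
      · exact absurd (neg_eq_iff_eq_neg.mp e) hi
  · rintro ⟨⟨b', i, rfl⟩, hpos⟩
    have hy := hpos _ ⟨b', i, rfl, rfl⟩
    obtain ⟨c, hc, hcd⟩ := dual_fundWeight b' i
    have hd : fundWeight b' i ∈ closedChamber b := fun l hl => by
      rw [coroot'_nonneg_iff, hcd, map_smul, smul_eq_mul]
      exact mul_nonneg hc.le
        (hy l (mem_cham_iff.mp hb l (RootPairing.Base.isPos_of_mem_support hl)))
    obtain ⟨j, hj⟩ := exists_eq_fundWeight i hd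
    refine ⟨⟨b', i, rfl⟩, ?_⟩
    rw [hj, fundWeight_closure_iff hb]
    by_contra hjJ
    have hn : neg P j ∈ F.parab := by
      show F.sgn (neg P j) ≠ -1
      rw [sgn_neg, sgn_eq_zero hb hjJ]; decide
    have := hy _ hn
    rw [corr_unique (b := b) (j := j) ⟨b', i, hj, rfl⟩, root'_neg, root'_fundCoweight_self] at this
    linarith

lemma parab_isParabolic (F : Facet P) : IsParabolicSubset P F.parab := by
  obtain ⟨x, hx⟩ := exists_dual_mem F
  have hiff : ∀ k, k ∈ F.parab ↔ 0 ≤ P.root' k x := fun k => by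
    show F.sgn k ≠ -1 ↔ _
    rw [← hx]; exact sign_ne_neg_one_iff
  refine ⟨fun i j k hi hj e => ?_, fun i => ?_⟩
  · rw [hiff] at hi hj ⊢
    rw [root'_add e]; exact add_nonneg hi hj
  · rw [hiff, hiff, show P.reflectionPerm i i = neg P i from rfl, root'_neg, neg_nonneg]
    exact le_total _ _

lemma exists_base_subset {S : Set ι} (hS : IsParabolicSubset P S) :
    ∃ b : P.Base, ∀ k, b.IsPos k → k ∈ S := by
  classical
  obtain ⟨b₀⟩ := P.nonempty_base
  let m : P.Base → ℕ := fun b => {k | b.IsPos k ∧ k ∉ S}.ncard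
  have : ∃ n, ∃ b : P.Base, m b = n := ⟨_, b₀, rfl⟩
  obtain ⟨b, hb⟩ := Nat.find_spec this
  have hsimple : ∀ j ∈ b.support, j ∈ S := by
    intro j hj
    by_contra hjS
    have hn : neg P j ∈ S := (hS.2 j).resolve_left hjS
    obtain ⟨b', hb'⟩ := exists_refl_base b hj
    have hlt : m b' < m b := by
      refine Set.ncard_lt_ncard ⟨fun k ⟨hk, hkS⟩ => ⟨?_, hkS⟩, fun h => ?_⟩ (toFinite _)
      · rcases (hb' k).mp hk with h | rfl
        · exact h.1
        · exact absurd hn hkS
      · have := (hb' j).mp (h ⟨RootPairing.Base.isPos_of_mem_support hj, hjS⟩).1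
        rcases this with h | h
        · exact h.2 rfl
        · exact hjS (h.symm ▸ hn)
    exact absurd (Nat.find_min' this ⟨b', rfl⟩) (not_le.mpr (hb ▸ hlt))
  exact ⟨b, fun k hk => hk.induction_on_add hsimple fun i j k e hi hj =>
    hS.1 i j k hi (hsimple j hj) e⟩

lemma exists_parab_eq {S : Set ι} (hS : IsParabolicSubset P S) :
    ∃ F : Facet P, F.parab = S := by
  obtain ⟨b, hb⟩ := exists_base_subset hS
  obtain ⟨F, hF, hJ⟩ := exists_facet b {j | neg P j ∉ S}
  refine ⟨F, ?_⟩
  have key : ∀ k, b.IsPos k → (neg P k ∈ S ↔ F.sgn k = 0) := by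
    intro k hk
    refine hk.induction_on_add (p := fun k => b.IsPos k → (neg P k ∈ S ↔ F.sgn k = 0))
      (fun j hj _ => ?_) (fun i j k e ih hj hk' => ?_) hk
    · constructor
      · intro h
        refine sgn_eq_zero hF (j := ⟨j, hj⟩) ?_
        rw [hJ]; exact fun h' => h' h
      · intro h
        by_contra hn
        have : (⟨j, hj⟩ : b.support) ∈ J F b := by rw [hJ]; exact hn
        rw [mem_J, h] at this
        exact absurd this (by decide)
    · have hjp := RootPairing.Base.isPos_of_mem_support (b := b) hj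
      have hip : b.IsPos i := by
        by_contra hi
        have hni := (isPos_neg b i).mpr hi
        have h1 : b.height (neg P i) ≥ 1 := hni
        have h2 := b.height_add e
        have h3 := RootPairing.Base.height_one_of_mem_support hj
        have h4 : b.height (neg P i) = -b.height i := b.height_reflectionPerm_self i
        have h5 : (0 : ℤ) < b.height k := hk'
        omega
      have hzero : F.sgn k = 0 ↔ F.sgn i = 0 ∧ F.sgn j = 0 := by
        rw [sgn_zero_iff hF, sgn_zero_iff hF, sgn_zero_iff hF, ← forall₂_and]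
        refine forall₂_congr fun l _ => ?_
        rw [root'_add e]
        exact add_eq_zero_iff_of_nonneg (fundCoweight_root'_nonneg l hip)
          (fundCoweight_root'_nonneg l hjp)
      have hj' : neg P j ∈ S ↔ F.sgn j = 0 := by
        constructor
        · intro h
          refine sgn_eq_zero hF (j := ⟨j, hj⟩) ?_
          rw [hJ]; exact fun h' => h' h
        · intro h
          by_contra hn
          have : (⟨j, hj⟩ : b.support) ∈ J F b := by rw [hJ]; exact hn
          rw [mem_J, h] at this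
          exact absurd this (by decide)
      rw [hzero, ← ih hip, ← hj']
      constructor
      · intro h
        refine ⟨hS.1 (neg P k) j _ h (hb j hjp) ?_, hS.1 (neg P k) i _ h (hb i hip) ?_⟩
        · rw [root_neg, root_neg, e]; abel
        · rw [root_neg, root_neg, e]; abel
      · rintro ⟨h₁, h₂⟩
        exact hS.1 _ _ _ h₁ h₂ (by rw [root_neg, root_neg, root_neg, e]; abel)
  ext k
  show F.sgn k ≠ -1 ↔ k ∈ S
  by_cases hk : b.IsPos k
  · exact iff_of_true (mem_cham_iff.mp hF k hk) (hb k hk)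
  · have hn := (isPos_neg b k).mpr hk
    have := key _ hn
    rw [RootDat.neg_neg] at this
    rw [this]
    rcases sgn_pos_cases hF hn with e | e <;> rw [sgn_neg] at e <;> revert e <;>
      simp only [sgn_neg] <;> cases F.sgn k <;> decide

end Groth.Agent.RootDat.Cham
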